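import Cfsg.Agent.Lib.Leech.PointStab
import Cfsg.Agent.Lib.Golay.Perm

/-!
Words in permutations, sign changes and sextet maps as lattice automorphisms, evaluated on
lists of coordinates.
-/

set_option autoImplicit false

namespace Cfsg.Agent.Lib.Co3Model

open Cfsg Cfsg.Agent.Lib.Leech Cfsg.Agent.Lib.Golay
open Cfsg.Agent.Lib.Computation (getW mulP)
open scoped Pointwise

/-- A primitive automorphism. -/
inductive Op where
  | perm (c ci : ℕ)
  | sign (m : ℕ)
  | sext (p : ℕ)

/-- The label of an index. -/
def lab (p i : ℕ) : ℕ := (p >>> (3 * i)) % 8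

/-- The mask of the indices with labels among two given ones. -/
def labMask (p s t : ℕ) : ℕ :=
  (List.range 24).foldr (fun i m => bif Nat.beq (lab p i) s || Nat.beq (lab p i) t then m ||| 2 ^ i else m) 0

/-- The checks of a primitive. -/
def Op.ok : Op → Bool
  | .perm c ci => inM24 c && okCode ci && Nat.beq (mulP 24 5 c ci) oneCode
  | .sign m => inCode m
  | .sext p => ((List.range 24).all fun i => Nat.blt (lab p i) 6) &&
      ((List.range 6).all fun s => Nat.beq (pc24 (labMask p s s)) 4) &&
      (List.range 6).all fun s => (List.range 6).all fun t =>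
        Nat.beq s t || inCode (labMask p s t)

/-- The coordinates of a vector, as a list. -/
def lv (v : leechLattice) : List ℤ := (List.range 24).map fun i => vec v (pt i)

/-- An entry of a list. -/
def ent (L : List ℤ) (i : ℕ) : ℤ := L.getD i 0

/-- The sum of the entries with a given label. -/
def labSum (p t : ℕ) (L : List ℤ) : ℤ :=
  ((List.range 24).map fun i => if lab p i = t then ent L i else 0).sum

/-- A primitive on coordinates. -/
def Op.app : Op → List ℤ → List ℤ
  | .perm _ ci, L => (List.range 24).map fun i => ent L (getW 5 ci i)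
  | .sign m, L => (List.range 24).map fun i => if m.testBit i then -ent L i else ent L i
  | .sext p, L => (List.range 24).map fun i =>
      (if lab p i = 0 then -1 else 1) * (labSum p (lab p i) L / 2 - ent L i)

/-- A word on coordinates. -/
def appWord : List Op → List ℤ → List ℤ
  | [], L => L
  | o :: w, L => o.app (appWord w L)

theorem ent_lv (v : leechLattice) {i : ℕ} (hi : i < 24) : ent (lv v) i = vec v (pt i) := by
  simp [ent, lv, List.getD_eq_getElem?_getD, hi]

theorem ent_lv_idx (v : leechLattice) (p : GolayPt) : ent (lv v) (idx p) = vec v p := by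
  rw [ent_lv v (idx_lt p), pt_idx]

theorem lv_injective : Function.Injective lv := by
  intro v w h
  apply Subtype.ext
  funext p
  show vec v p = vec w p
  rw [← ent_lv_idx, h, ent_lv_idx]

theorem lv_eq_map {f : ℕ → ℤ} {v : leechLattice} (h : ∀ i < 24, vec v (pt i) = f i) :
    lv v = (List.range 24).map f :=
  List.map_congr_left fun i hi => h i (List.mem_range.1 hi)

/-- The labelling of the points of a sextet code. -/
def labP (p : ℕ) (q : GolayPt) : Fin 6 := ⟨lab p (idx q) % 6, Nat.mod_lt _ (by norm_num)⟩

theorem labMask_testBit (p s t : ℕ) {i : ℕ} (hi : i < 24) :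
    (labMask p s t).testBit i = (Nat.beq (lab p i) s || Nat.beq (lab p i) t) := by
  have key : ∀ l : List ℕ, (l.foldr (fun i m =>
      bif Nat.beq (lab p i) s || Nat.beq (lab p i) t then m ||| 2 ^ i else m) 0).testBit i =
      (decide (i ∈ l) && (Nat.beq (lab p i) s || Nat.beq (lab p i) t)) := by
    intro l
    induction l with
    | nil => simp
    | cons a l ih =>
      rw [List.foldr_cons]
      by_cases ha : i = a
      · subst ha
        cases hb : (Nat.beq (lab p i) s || Nat.beq (lab p i) t)
        · simp [ih, hb]
        · simp [Nat.testBit_or]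
      · cases hb : (Nat.beq (lab p a) s || Nat.beq (lab p a) t)
        · simp [ih, ha]
        · simp [Nat.testBit_or, ih, ha, Nat.testBit_two_pow, Ne.symm ha]
  rw [labMask, key, decide_eq_true (List.mem_range.2 hi), Bool.true_and]

theorem isSextet_labP {p : ℕ} (h : (Op.sext p).ok = true) : IsSextet (labP p) := by
  simp only [Op.ok, Bool.and_eq_true, List.all_eq_true, List.mem_range, Nat.blt_eq, Nat.beq_eq,
    Bool.or_eq_true] at h
  obtain ⟨⟨hlt, hcard⟩, hpair⟩ := h
  have hP : ∀ q, (labP p q).val = lab p (idx q) := fun q => Nat.mod_eq_of_lt (hlt _ (idx_lt q))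
  have hset : ∀ s t : Fin 6, tetUnion (labP p) {s, t} = setOfMask (labMask p s t) := by
    intro s t
    ext q
    rw [mem_tetUnion, mem_setOfMask, labMask_testBit p s t (idx_lt q), Finset.mem_insert,
      Finset.mem_singleton, Bool.or_eq_true, Nat.beq_eq, Nat.beq_eq, Fin.ext_iff, Fin.ext_iff, hP]
  constructor
  · intro t
    have e : tetUnion (labP p) {t} = tetUnion (labP p) {t, t} := by simp
    rw [e, hset, card_setOfMask, hcard t t.isLt]
  · intro s t hst
    rw [hset, isCode_iff, ← support₂_wordOfMask, ind_support₂]
    exact wordOfMask_mem ((hpair s s.isLt t t.isLt).resolve_left fun e => hst (Fin.ext e))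

theorem isCode_setOfMask {m : ℕ} (h : inCode m = true) : IsCode (setOfMask m) := by
  rw [isCode_iff, ← support₂_wordOfMask, ind_support₂]
  exact wordOfMask_mem h

/-- The automorphism of a primitive. -/
noncomputable def Op.elt : Op → Co0
  | .perm c ci => if h : (Op.perm c ci).ok = true then
      permHom ⟨gperm c, gperm_mem_M24 (by simp only [Op.ok, Bool.and_eq_true] at h; exact h.1.1)⟩
    else 1
  | .sign m => if h : inCode m = true then Leech.flip (setOfMask m) (isCode_setOfMask h) else 1
  | .sext p => if h : (Op.sext p).ok = true then sextetElt (isSextet_labP h) else 1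

/-- The automorphism of a word. -/
noncomputable def wordElt (w : List Op) : Co0 := (w.map Op.elt).prod

theorem sum_pts (f : GolayPt → ℤ) : ∑ q, f q = ((List.range 24).map fun i => f (pt i)).sum := by
  rw [← Equiv.sum_comp ptEquiv f, ← List.sum_toFinset _ (List.nodup_range (n := 24))]
  rw [List.toFinset_range, Finset.sum_range]
  rfl

theorem lv_op {o : Op} (h : o.ok = true) (v : leechLattice) : lv (o.elt • v) = o.app (lv v) := by
  cases o with
  | perm c ci =>
    have h' := h
    simp only [Op.ok, Bool.and_eq_true, Nat.beq_eq] at h'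
    obtain ⟨⟨hc, hci⟩, hmul⟩ := h'
    have hinv : gperm ci = (gperm c)⁻¹ := by
      refine eq_inv_of_mul_eq_one_right ?_
      rw [← gperm_mul (okCode_of_inM24 hc) hci, hmul, gperm_oneCode]
    simp only [Op.elt, dif_pos h, Op.app]
    refine lv_eq_map fun i hi => ?_
    rw [permHom_apply, ← Equiv.Perm.inv_def]
    show vec v ((gperm c)⁻¹ (pt i)) = _
    rw [← hinv, gperm_apply hci, imgCode, idx_pt hi, ent_lv v (getW_lt hci hi)]
  | sign m =>
    have h' : inCode m = true := h
    simp only [Op.elt, dif_pos h', Op.app]
    refine lv_eq_map fun i hi => ?_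
    rw [flip_smul, ent_lv v hi]
    simp only [mem_setOfMask, idx_pt hi]
  | sext p =>
    have h' := h
    simp only [Op.ok, Bool.and_eq_true, List.all_eq_true, List.mem_range, Nat.blt_eq] at h'
    obtain ⟨⟨hlt, -⟩, -⟩ := h'
    simp only [Op.elt, dif_pos h, Op.app]
    refine lv_eq_map fun i hi => ?_
    rw [sextetElt_smul, sextetMap]
    have hP : (labP p (pt i)).val = lab p i := by
      show lab p (idx (pt i)) % 6 = _
      rw [idx_pt hi, Nat.mod_eq_of_lt (hlt i hi)]
    have hsum : tetSum (labP p) (vec v) (labP p (pt i)) = labSum p (lab p i) (lv v) := by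
      rw [tetSum, tetUnion, Finset.sum_filter, sum_pts, labSum]
      refine congrArg List.sum (List.map_congr_left fun j hj => ?_)
      simp only [List.mem_range] at hj
      rw [ent_lv v hj]
      refine if_congr ?_ rfl rfl
      rw [Finset.mem_singleton, Fin.ext_iff, hP]
      show lab p (idx (pt j)) % 6 = _ ↔ _
      rw [idx_pt hj, Nat.mod_eq_of_lt (hlt j hj)]
    rw [hsum, ent_lv v hi, tetSign]
    simp only [Fin.ext_iff, hP, Fin.val_zero]

theorem lv_word : ∀ {w : List Op}, w.all Op.ok = true → ∀ v : leechLattice,
    lv (wordElt w • v) = appWord w (lv v)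
  | [], _, v => by simp [wordElt, appWord]
  | o :: w, h, v => by
    simp only [List.all_cons, Bool.and_eq_true] at h
    simp only [wordElt, List.map_cons, List.prod_cons, appWord, mul_smul]
    rw [lv_op h.1]
    exact congrArg o.app (lv_word h.2 v)

end Cfsg.Agent.Lib.Co3Model
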