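import Cfsg.Agent.Lib.Co3Model.Data
import Cfsg.Agent.Lib.Co3Model.Chain
import Cfsg.Prelude.Def_Spor_Conway

/-!
The stabiliser of a norm 48 vector acts faithfully on 276 pairs of norm 32 vectors as the
certified permutation group.
-/

set_option autoImplicit false

namespace Cfsg.Agent.Lib.Co3Model

open Cfsg Cfsg.Agent.Lib.Leech Cfsg.Agent.Lib.Golay
open Cfsg.Agent.Lib.Computation (getW decodeP okPerm permRep)

/-- The stabiliser of the vector in the lattice group. -/
abbrev St : Subgroup Co0 := MulAction.stabilizer Co0 Spor.leechV

/-- The coordinates of the vector. -/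
def vList : List ℤ := (List.range 24).map fun i => vec Spor.leechV (pt i)

/-- The other member of a pair. -/
def partner (L : List ℤ) : List ℤ := (List.range 24).map fun i => -ent vList i - ent L i

/-- Membership in a pair. -/
def inCls (j : ℕ) (y : List ℤ) : Bool :=
  y == pts.getD j [] || y == partner (pts.getD j [])

/-- The index of the pair of a vector. -/
def clsIdx (y : List ℤ) : ℕ := getW 9 hashTab (encV y % hashMod)

theorem pts_distinct : ((List.range 276).all fun j =>
    Nat.beq (clsIdx (pts.getD j [])) j && Nat.beq (clsIdx (partner (pts.getD j []))) j) = true := by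
  decide +kernel

theorem partner_ok : ((List.range 276).all fun j =>
    decodeV (otherCodes.getD j 0) == partner (pts.getD j [])) = true := by
  decide +kernel

theorem codes_length : ptCodes.length = 276 := by decide +kernel

theorem pts_getD {j : ℕ} (hj : j < 276) : pts.getD j [] = decodeV (ptCodes.getD j 0) := by
  rw [pts, List.getD_eq_getElem _ _ (by rw [List.length_map, codes_length]; exact hj),
    List.getElem_map, List.getD_eq_getElem _ _ (by rw [codes_length]; exact hj)]

theorem pts_lengths : ((List.range 276).all fun j => (pts.getD j []).length == 24) = true := by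
  decide +kernel

theorem clsIdx_eq {j : ℕ} (hj : j < 276) {y : List ℤ} (h : inCls j y = true) : clsIdx y = j := by
  have h' := List.all_eq_true.1 pts_distinct j (List.mem_range.2 hj)
  simp only [Bool.and_eq_true, Nat.beq_eq] at h'
  simp only [inCls, Bool.or_eq_true, beq_iff_eq] at h
  rcases h with rfl | rfl
  · exact h'.1
  · exact h'.2

/-- The vector of the other member of a pair. -/
noncomputable def other (v : leechLattice) : leechLattice := -Spor.leechV - v

theorem lv_other (v : leechLattice) : lv (other v) = partner (lv v) := by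
  refine lv_eq_map fun i hi => ?_
  rw [ent_lv v hi, ← show lv Spor.leechV = vList from rfl, ent_lv _ hi]
  rfl

theorem other_smul {g : Co0} (hg : g • Spor.leechV = Spor.leechV) (v : leechLattice) :
    g • other v = other (g • v) := by
  rw [other, other, smul_sub', smul_neg', hg]

theorem other_other (v : leechLattice) : other (other v) = v := by
  rw [other, other]; abel

/-- The generating words. -/
def genWords : List (List Op) := [xWord, sWord, tWord]

theorem genWords_ok : (genWords.all fun w => w.all Op.ok && (appWord w vList == vList)) = true := by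
  decide +kernel

theorem par_ok : ((List.range 276).all fun j => Nat.beq j 0 ||
    (Nat.blt (par.getD j (0, 0)).1 j && Nat.blt (par.getD j (0, 0)).2 3 &&
      mapsC (genWords.getD (par.getD j (0, 0)).2 []) (ptCodes.getD (par.getD j (0, 0)).1 0)
        (ptCodes.getD j 0))) = true := by
  decide +kernel

theorem pts_zero : lv Spor.leechU = pts.getD 0 [] := by decide +kernel

/-- The checks of a word and of the code of the permutation it induces. -/
def codeOK (w : List Op) (c : ℕ) : Bool :=
  w.all Op.ok && (appWord w vList == vList) && okPerm 276 9 c &&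
    (List.range 276).all fun j => mapsC w (ptCodes.getD j 0) (ptCodes.getD (getW 9 c j) 0) ||
      mapsC w (ptCodes.getD j 0) (otherCodes.getD (getW 9 c j) 0)

theorem exists_pt : ∀ j < 276, ∃ w : leechLattice, lv w = pts.getD j [] := by
  intro j
  induction j using Nat.strong_induction_on with
  | _ j ih =>
    intro hj
    rcases Nat.eq_zero_or_pos j with rfl | hj0
    · exact ⟨_, pts_zero⟩
    have h := List.all_eq_true.1 par_ok j (List.mem_range.2 hj)
    simp only [Bool.or_eq_true, Bool.and_eq_true, Nat.beq_eq, Nat.blt_eq] at h
    obtain ⟨⟨h1, h2⟩, h3⟩ := h.resolve_left (by omega)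
    obtain ⟨w, hw⟩ := ih _ h1 (by omega)
    have hmem : genWords.getD (par.getD j (0, 0)).2 [] ∈ genWords := by
      rw [List.getD_eq_getElem _ _ (by exact h2)]
      exact List.getElem_mem _
    have hok := List.all_eq_true.1 genWords_ok _ hmem
    rw [Bool.and_eq_true] at hok
    exact ⟨wordElt (genWords.getD (par.getD j (0, 0)).2 []) • w, by
      rw [lv_word hok.1, hw, pts_getD (by omega), mapsC_sound hok.1 h3, pts_getD hj]⟩

/-- The representative vectors. -/
noncomputable def wv (j : Fin 276) : leechLattice := (exists_pt j j.isLt).choose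

theorem lv_wv (j : Fin 276) : lv (wv j) = pts.getD j [] := (exists_pt j j.isLt).choose_spec

/-- Being in a pair. -/
def InPair (k : Fin 276) (v : leechLattice) : Prop := v = wv k ∨ v = other (wv k)

theorem inPair_iff (k : Fin 276) (v : leechLattice) : InPair k v ↔ inCls k (lv v) = true := by
  simp only [InPair, inCls, Bool.or_eq_true, beq_iff_eq, ← lv_wv, ← lv_other,
    lv_injective.eq_iff]

theorem inPair_unique {k l : Fin 276} {v : leechLattice} (hk : InPair k v) (hl : InPair l v) :
    k = l :=
  Fin.ext ((clsIdx_eq k.isLt ((inPair_iff k v).1 hk)).symm.trans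
    (clsIdx_eq l.isLt ((inPair_iff l v).1 hl)))

/-- The automorphism permutes the pairs. -/
def Good (g : St) : Prop := ∀ j, ∃ k, InPair k ((g : Co0) • wv j)

theorem good_inPair {g : St} {j k : Fin 276} (hk : InPair k ((g : Co0) • wv j)) {v : leechLattice}
    (hv : InPair j v) : InPair k ((g : Co0) • v) := by
  rcases hv with rfl | rfl
  · exact hk
  · rw [other_smul (MulAction.mem_stabilizer_iff.1 g.2)]
    rcases hk with h | h <;> rw [h]
    · exact Or.inr rfl
    · rw [other_other]; exact Or.inl rfl

theorem good_mul {g h : St} (hg : Good g) (hh : Good h) : Good (g * h) := by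
  intro j
  obtain ⟨k, hk⟩ := hh j
  obtain ⟨l, hl⟩ := hg k
  refine ⟨l, ?_⟩
  rw [Subgroup.coe_mul, mul_smul]
  exact good_inPair hl hk

theorem good_one : Good 1 := fun j => ⟨j, Or.inl (one_smul _ _)⟩

/-- An element of the stabiliser from a word. -/
noncomputable def mkSt (w : List Op) (h : w.all Op.ok = true) (hv : (appWord w vList == vList) = true) :
    St :=
  ⟨wordElt w, MulAction.mem_stabilizer_iff.2 (lv_injective (by
    rw [lv_word h, show lv Spor.leechV = vList from rfl]
    exact beq_iff_eq.1 hv))⟩

/-- The member with a given code. -/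
noncomputable def ofCode {w : List Op} {c : ℕ} (h : codeOK w c = true) : St :=
  mkSt w (by simp only [codeOK, Bool.and_eq_true] at h; exact h.1.1.1)
    (by simp only [codeOK, Bool.and_eq_true] at h; exact h.1.1.2)

theorem ofCode_pair {w : List Op} {c : ℕ} (h : codeOK w c = true) (j : Fin 276) :
    InPair (decodeP 276 9 c j) ((ofCode h : Co0) • wv j) := by
  have h' := h
  simp only [codeOK, Bool.and_eq_true, List.all_eq_true, List.mem_range] at h'
  obtain ⟨⟨⟨hw, -⟩, hok⟩, hcls⟩ := h'
  rw [inPair_iff, show ((ofCode h : St) : Co0) = wordElt w from rfl,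
    lv_word (List.all_eq_true.2 hw), lv_wv, Computation.decodeP_apply hok]
  have hk : getW 9 c j < 276 := Computation.okPerm_lt hok j.isLt
  have hwok : w.all Op.ok = true := List.all_eq_true.2 hw
  rw [inCls, Bool.or_eq_true, beq_iff_eq, beq_iff_eq, pts_getD j.isLt, pts_getD hk]
  have hc := hcls j j.isLt
  rw [Bool.or_eq_true] at hc
  rcases hc with hc | hc
  · exact Or.inl (mapsC_sound hwok hc)
  · refine Or.inr ?_
    rw [mapsC_sound hwok hc, ← pts_getD hk]
    exact beq_iff_eq.1 (List.all_eq_true.1 partner_ok _ (List.mem_range.2 hk))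

theorem codes_ok : codeOK xWord (co3_gens.getD 0 0) = true ∧
    codeOK sWord (co3_gens.getD 1 0) = true ∧ codeOK tWord (co3_gens.getD 2 0) = true := by
  decide +kernel

/-- The first generator, of order 23. -/
noncomputable def gx : St := ofCode codes_ok.1

/-- The second generator, of order 11. -/
noncomputable def gs : St := ofCode codes_ok.2.1

/-- The third generator, an involution. -/
noncomputable def gt : St := ofCode codes_ok.2.2

/-- The generated subgroup. -/
noncomputable def H : Subgroup St := Subgroup.closure {gx, gs, gt}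

theorem card_St : Nat.card St = 495766656000 := card_stab48 (by decide +kernel)

instance finiteSt : Finite St := Nat.finite_of_card_ne_zero (by rw [card_St]; norm_num)

theorem good_H {g : St} (hg : g ∈ H) : Good g := by
  have hg' : g ∈ (Subgroup.closure ({gx, gs, gt} : Set St)).toSubmonoid := hg
  rw [Subgroup.closure_toSubmonoid_of_finite] at hg'
  induction hg' using Submonoid.closure_induction with
  | mem y hy =>
    rcases hy with rfl | rfl | rfl <;> intro j
    · exact ⟨_, ofCode_pair codes_ok.1 j⟩
    · exact ⟨_, ofCode_pair codes_ok.2.1 j⟩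
    · exact ⟨_, ofCode_pair codes_ok.2.2 j⟩
  | one => exact good_one
  | mul a b ha hb iha ihb =>
    refine good_mul (iha ?_) (ihb ?_) <;>
    · show _ ∈ (Subgroup.closure ({gx, gs, gt} : Set St)).toSubmonoid
      rw [Subgroup.closure_toSubmonoid_of_finite]
      assumption

/-- The map on pairs. -/
noncomputable def act (g : H) (j : Fin 276) : Fin 276 := (good_H g.2 j).choose

theorem act_spec (g : H) (j : Fin 276) : InPair (act g j) (((g : St) : Co0) • wv j) :=
  (good_H g.2 j).choose_spec

theorem act_eq {g : H} {j k : Fin 276} (h : InPair k (((g : St) : Co0) • wv j)) : act g j = k :=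
  inPair_unique (act_spec g j) h

/-- The map on pairs as a homomorphism. -/
noncomputable def actHom : H →* Function.End (Fin 276) where
  toFun := act
  map_one' := funext fun j => act_eq (Or.inl (one_smul _ _))
  map_mul' g h := funext fun j => act_eq (by
    show InPair (act g (act h j)) _
    rw [Subgroup.coe_mul, Subgroup.coe_mul, mul_smul]
    exact good_inPair (act_spec g _) (act_spec h j))

/-- The permutation representation. -/
noncomputable def rho : H →* Equiv.Perm (Fin 276) :=
  (Equiv.Perm.equivUnitsEnd (α := Fin 276)).symm.toMonoidHom.comp actHom.toHomUnits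

theorem rho_apply (g : H) (j : Fin 276) : rho g j = act g j := rfl

theorem rho_ofCode {w : List Op} {c : ℕ} (h : codeOK w c = true) (hm : ofCode h ∈ H) :
    rho ⟨ofCode h, hm⟩ = decodeP 276 9 c :=
  Equiv.ext fun j => act_eq (ofCode_pair h j)

theorem rho_range : rho.range = (permRep 276 9 (by decide)).grp co3_chain := by
  rw [← (permRep 276 9 (by decide)).closure_eq_grp co3_check, MonoidHom.range_eq_map,
    show (⊤ : Subgroup H) = Subgroup.closure {g : H | (g : St) ∈ ({gx, gs, gt} : Set St)} from
      (Subgroup.closure_closure_coe_preimage).symm, MonoidHom.map_closure]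
  congr 1
  have e : co3_gens = [co3_gens.getD 0 0, co3_gens.getD 1 0, co3_gens.getD 2 0] := by decide +kernel
  ext σ
  simp only [Set.mem_image, Set.mem_setOf_eq, Set.mem_insert_iff, Set.mem_singleton_iff]
  constructor
  · rintro ⟨⟨g, hg⟩, hh, rfl⟩
    rcases hh with rfl | rfl | rfl
    · exact ⟨_, by rw [e]; simp, (rho_ofCode codes_ok.1 hg).symm⟩
    · exact ⟨_, by rw [e]; simp, (rho_ofCode codes_ok.2.1 hg).symm⟩
    · exact ⟨_, by rw [e]; simp, (rho_ofCode codes_ok.2.2 hg).symm⟩
  · rintro ⟨c, hc, rfl⟩
    rw [e] at hc
    simp only [List.mem_cons, List.not_mem_nil, or_false] at hc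
    rcases hc with rfl | rfl | rfl
    · exact ⟨⟨gx, Subgroup.subset_closure (by simp)⟩, Or.inl rfl, rho_ofCode codes_ok.1 _⟩
    · exact ⟨⟨gs, Subgroup.subset_closure (by simp)⟩, Or.inr (Or.inl rfl),
        rho_ofCode codes_ok.2.1 _⟩
    · exact ⟨⟨gt, Subgroup.subset_closure (by simp)⟩, Or.inr (Or.inr rfl),
        rho_ofCode codes_ok.2.2 _⟩

theorem co3_order : (permRep 276 9 (by decide)).order co3_chain = 495766656000 := by decide +kernel

theorem card_grp : Nat.card ((permRep 276 9 (by decide)).grp co3_chain) = 495766656000 := by
  rw [← (permRep 276 9 (by decide)).closure_eq_grp co3_check,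
    (permRep 276 9 (by decide)).card_closure co3_check, co3_order]

theorem card_H : Nat.card H = 495766656000 := by
  refine le_antisymm ((H.card_le_card_group).trans_eq card_St) ?_
  rw [← card_grp, ← rho_range]
  exact Nat.card_le_card_of_surjective rho.rangeRestrict rho.rangeRestrict_surjective

theorem H_eq_top : H = ⊤ := Subgroup.eq_top_of_card_eq _ (card_H.trans card_St.symm)

theorem rho_bijective : Function.Bijective rho.rangeRestrict :=
  (Nat.bijective_iff_surjective_and_card _).2 ⟨rho.rangeRestrict_surjective, by
    rw [rho_range, card_grp, card_H]⟩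

/-- The stabiliser is the certified permutation group. -/
noncomputable def stEquiv : St ≃* (permRep 276 9 (by decide)).grp co3_chain :=
  (Subgroup.topEquiv.symm.trans (MulEquiv.subgroupCongr H_eq_top.symm)).trans
    ((MulEquiv.ofBijective rho.rangeRestrict rho_bijective).trans (MulEquiv.subgroupCongr rho_range))

/-- The third Conway group is the stabiliser. -/
noncomputable def co3Equiv : ↥Spor.Co3 ≃* St where
  toFun g := ⟨⟨g.1, g.2.1⟩, g.2.2⟩
  invFun g := ⟨g.1.1, g.1.2, g.2⟩
  left_inv _ := rfl
  right_inv _ := rfl
  map_mul' _ _ := rfl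

theorem stEquiv_ofCode {w : List Op} {c : ℕ} (h : codeOK w c = true) :
    ((stEquiv (ofCode h) : (permRep 276 9 (by decide)).grp co3_chain) : Equiv.Perm (Fin 276)) =
      decodeP 276 9 c :=
  rho_ofCode h _

end Cfsg.Agent.Lib.Co3Model
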