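import Cfsg.Agent.Lib.Co3Model.Model

/-!
The centralisers of the elements of order 23 and 11.
-/

set_option autoImplicit false

namespace Cfsg.Agent.Lib.Co3Model

open Cfsg Cfsg.Agent.Lib.Leech Cfsg.Agent.Lib.Golay
open Cfsg.Agent.Lib.Computation (getW packW decodeP okPerm)

theorem ofCode_val {w : List Op} {c : ℕ} (h : codeOK w c = true) :
    ((ofCode h : St) : Co0) = wordElt w := rfl

theorem gx_val : (gx : Co0) = shiftElt := by
  rw [gx, ofCode_val]
  apply co0_ext
  intro q
  apply lv_injective
  rw [lv_word (by decide +kernel)]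
  refine (lv_eq_map (f := fun i => ent (lv (eightE q)) (if i = 23 then 23 else (i + 22) % 23)) ?_).trans ?_ |>.symm
  · intro i hi
    rw [shiftElt, permHom_apply]
    have e : shift23.symm (pt i) = pt (if i = 23 then 23 else (i + 22) % 23) := by
      rw [Equiv.symm_apply_eq]
      revert i hi
      decide +kernel
    rw [e, ent_lv _ (by split_ifs <;> omega)]
  · revert q
    decide +kernel

theorem lv_gs (v : leechLattice) : lv ((gs : Co0) • v) = appWord sWord (lv v) := by
  rw [gs, ofCode_val, lv_word (by decide +kernel)]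

theorem lv_gt (v : leechLattice) : lv ((gt : Co0) • v) = appWord tWord (lv v) := by
  rw [gt, ofCode_val, lv_word (by decide +kernel)]

theorem leechV_eq : Spor.leechV = -oddTop 5 (Or.inl rfl) := by
  apply Subtype.ext
  funext p
  show Spor.vecV p = -(if p = none then 5 else 1)
  unfold Spor.vecV
  split_ifs <;> rfl

theorem fix_oddTop (g : St) : (g : Co0) • oddTop 5 (Or.inl rfl) = oddTop 5 (Or.inl rfl) := by
  have h := MulAction.mem_stabilizer_iff.1 g.2
  rw [leechV_eq, smul_neg'] at h
  exact neg_injective h

/-- The centraliser of the element of order 23. -/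
theorem cent_x (g : St) (h : g * gx * g⁻¹ = gx) : ∃ i < 23, g = gx ^ i := by
  have hc : (g : Co0) * shiftElt * (g : Co0)⁻¹ = shiftElt := by
    rw [← gx_val]; exact congrArg Subtype.val h
  obtain ⟨σ, hσ, hσg⟩ := normalizer_shift (Or.inl rfl) (fix_oddTop g)
    (by rw [hc]; exact Subgroup.mem_zpowers _)
  have hcomm : σ * ⟨shift23, shift23_mem⟩ = ⟨shift23, shift23_mem⟩ * σ := by
    apply permHom_injective
    rw [map_mul, map_mul, hσg]
    exact mul_inv_eq_iff_eq_mul.1 hc
  have hfun : ∀ p, (σ : Equiv.Perm GolayPt) (shift23 p) = shift23 ((σ : Equiv.Perm GolayPt) p) :=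
    fun p => congrArg (fun e : M24 => (e : Equiv.Perm GolayPt) p) hcomm
  have hnone : (σ : Equiv.Perm GolayPt) none = none := hσ
  obtain ⟨b, hb⟩ : ∃ b, (σ : Equiv.Perm GolayPt) (some 0) = some b := by
    cases h0 : (σ : Equiv.Perm GolayPt) (some 0) with
    | none => exact absurd ((σ : Equiv.Perm GolayPt).injective (h0.trans hnone.symm)) (by simp)
    | some b => exact ⟨b, rfl⟩
  have hall : ∀ n : ℕ, (σ : Equiv.Perm GolayPt) (some (n : ZMod 23)) = some (b + n) := by
    intro n
    induction n with
    | zero => simpa using hb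
    | succ n ih =>
      rw [Nat.cast_succ, ← shift23_some, hfun, ih, shift23_some, add_assoc]
  refine ⟨b.val, b.val_lt, Subtype.ext ?_⟩
  rw [SubgroupClass.coe_pow, gx_val, ← hσg, shiftElt, ← map_pow]
  refine congrArg permHom (Subtype.ext (Equiv.ext fun p => ?_))
  rw [SubgroupClass.coe_pow]
  cases p with
  | none =>
    rw [hnone]
    exact (Equiv.Perm.pow_apply_eq_self_of_apply_eq_self shift23_none _).symm
  | some a =>
    rw [shift23_pow_some, ZMod.natCast_zmod_val]
    have := hall a.val
    rw [ZMod.natCast_zmod_val] at this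
    rw [this, add_comm]

/-- The coordinates of the unit vector at infinity, times eight. -/
def eList : List ℤ := (List.range 24).map fun i => if i = 23 then 8 else 0

theorem lv_eight : lv (eightE none) = eList := by decide +kernel

theorem sList_fix : appWord sWord eList = eList := by decide +kernel

/-- The position of an index among the four orbits of the element of order 11. -/
def sel (i : ℕ) : Fin 4 :=
  if i = 23 then 0 else if i = 0 then 1 else if (List.range 11).any (fun k => 2 ^ k % 23 == i) then 2
  else 3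

theorem gs_fixed {v : leechLattice} (hv : (gs : Co0) • v = v) :
    lv v = (List.range 24).map fun i =>
      ![ent (lv v) 23, ent (lv v) 0, ent (lv v) 1, ent (lv v) 5] (sel i) := by
  have h := congrArg lv hv
  rw [lv_gs] at h
  have hstep : ∀ i < 23, ent (lv v) (2 * i % 23) = ent (lv v) i := by
    intro i hi
    have hj : 2 * i % 23 < 24 := by omega
    have e := congrArg (fun L => ent L (2 * i % 23)) h
    simp only [sWord, appWord, Op.app, ent, List.getD_eq_getElem?_getD, List.getElem?_map,
      List.getElem?_range hj, Option.map_some, Option.getD_some] at e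
    simp only [ent, List.getD_eq_getElem?_getD]
    rw [← e]
    congr 2
    clear e h hv hj
    revert i
    decide +kernel
  have hpow : ∀ r < 23, ∀ k : ℕ, ent (lv v) (2 ^ k * r % 23) = ent (lv v) r := by
    intro r hr k
    induction k with
    | zero => rw [pow_zero, one_mul, Nat.mod_eq_of_lt hr]
    | succ k ih =>
      rw [pow_succ', mul_assoc, Nat.mul_mod, Nat.mod_eq_of_lt (show 2 < 23 by norm_num),
        hstep _ (Nat.mod_lt _ (by norm_num)), ih]
  refine lv_eq_map fun i hi => ?_
  rw [← ent_lv v hi]
  have hcase : ∀ j < 24, (j = 23 ∧ sel j = 0) ∨ (j = 0 ∧ sel j = 1) ∨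
      ((List.range 11).any (fun k => 2 ^ k * 1 % 23 == j) = true ∧ sel j = 2) ∨
      ((List.range 11).any (fun k => 2 ^ k * 5 % 23 == j) = true ∧ sel j = 3) := by decide +kernel
  rcases hcase i hi with ⟨rfl, e⟩ | ⟨rfl, e⟩ | ⟨hk, e⟩ | ⟨hk, e⟩ <;> rw [e]
  · rfl
  · rfl
  · obtain ⟨k, -, hk⟩ := List.any_eq_true.1 hk
    rw [← beq_iff_eq.1 hk, hpow 1 (by norm_num)]
    rfl
  · obtain ⟨k, -, hk⟩ := List.any_eq_true.1 hk
    rw [← beq_iff_eq.1 hk, hpow 5 (by norm_num)]
    rfl

theorem norm_formula (v : leechLattice) (a b c d : ℤ)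
    (h : lv v = (List.range 24).map fun i => ![a, b, c, d] (sel i)) :
    sqNorm (vec v) = a ^ 2 + b ^ 2 + 11 * c ^ 2 + 11 * d ^ 2 ∧
      dotInt (vec Spor.leechV) (vec v) = -(5 * a + b + 11 * c + 11 * d) := by
  have hv : ∀ i < 24, vec v (pt i) = ![a, b, c, d] (sel i) := by
    intro i hi
    rw [← ent_lv v hi, h]
    simp [ent, List.getD_eq_getElem?_getD, hi]
  have e1 : sqNorm (vec v) = ((List.range 24).map fun i => ![a, b, c, d] (sel i) ^ 2).sum := by
    refine (sum_pts fun q => vec v q ^ 2).trans (congrArg List.sum (List.map_congr_left fun i hi => ?_))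
    rw [hv i (List.mem_range.1 hi)]
  have e2 : dotInt (vec Spor.leechV) (vec v) =
      ((List.range 24).map fun i => (if i = 23 then -5 else -1) * ![a, b, c, d] (sel i)).sum := by
    refine (sum_pts fun q => vec Spor.leechV q * vec v q).trans
      (congrArg List.sum (List.map_congr_left fun i hi => ?_))
    rw [hv i (List.mem_range.1 hi)]
    congr 1
    have hi' := List.mem_range.1 hi
    clear hi hv h
    revert i
    decide +kernel
  have hsel : ((List.range 24).map fun i => (i, sel i)) = [(0, 1), (1, 2), (2, 2), (3, 2), (4, 2),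
      (5, 3), (6, 2), (7, 3), (8, 2), (9, 2), (10, 3), (11, 3), (12, 2), (13, 2), (14, 3), (15, 3),
      (16, 2), (17, 3), (18, 2), (19, 3), (20, 3), (21, 3), (22, 3), (23, 0)] := by decide +kernel
  constructor
  · rw [e1, show ((List.range 24).map fun i => ![a, b, c, d] (sel i) ^ 2) =
      (((List.range 24).map fun i => (i, sel i)).map fun p => ![a, b, c, d] p.2 ^ 2) by
        rw [List.map_map]; rfl, hsel]
    simp [Matrix.cons_val]
    ring
  · rw [e2, show ((List.range 24).map fun i => (if i = 23 then -5 else -1) * ![a, b, c, d] (sel i)) =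
      (((List.range 24).map fun i => (i, sel i)).map
        fun p => (if p.1 = 23 then -5 else -1) * ![a, b, c, d] p.2) by
        rw [List.map_map]; rfl, hsel]
    simp [Matrix.cons_val]
    ring

theorem small_solutions : (List.range 17).all (fun a => (List.range 17).all fun b =>
    (List.range 5).all fun c => (List.range 5).all fun d =>
      !(decide (((a : ℤ) - 8) ^ 2 + ((b : ℤ) - 8) ^ 2 + 11 * ((c : ℤ) - 2) ^ 2 +
          11 * ((d : ℤ) - 2) ^ 2 = 64) &&
        decide (5 * ((a : ℤ) - 8) + ((b : ℤ) - 8) + 11 * ((c : ℤ) - 2) + 11 * ((d : ℤ) - 2) = 40)) ||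
      [(16, 8, 2, 2), (12, 6, 4, 2), (12, 6, 2, 4)].contains (a, b, c, d)) = true := by
  decide +kernel

theorem four_squares {a b c d : ℤ} (h : a ^ 2 + b ^ 2 + 11 * c ^ 2 + 11 * d ^ 2 = 64)
    (h' : 5 * a + b + 11 * c + 11 * d = 40) :
    (a = 8 ∧ b = 0 ∧ c = 0 ∧ d = 0) ∨ (a = 4 ∧ b = -2 ∧ c = 2 ∧ d = 0) ∨
      (a = 4 ∧ b = -2 ∧ c = 0 ∧ d = 2) := by
  have ha : -8 ≤ a ∧ a ≤ 8 := ⟨by nlinarith, by nlinarith⟩
  have hb : -8 ≤ b ∧ b ≤ 8 := ⟨by nlinarith, by nlinarith⟩
  have hc : -2 ≤ c ∧ c ≤ 2 := ⟨by nlinarith, by nlinarith⟩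
  have hd : -2 ≤ d ∧ d ≤ 2 := ⟨by nlinarith, by nlinarith⟩
  obtain ⟨a', rfl⟩ : ∃ n : ℕ, a = (n : ℤ) - 8 := ⟨(a + 8).toNat, by omega⟩
  obtain ⟨b', rfl⟩ : ∃ n : ℕ, b = (n : ℤ) - 8 := ⟨(b + 8).toNat, by omega⟩
  obtain ⟨c', rfl⟩ : ∃ n : ℕ, c = (n : ℤ) - 2 := ⟨(c + 2).toNat, by omega⟩
  obtain ⟨d', rfl⟩ : ∃ n : ℕ, d = (n : ℤ) - 2 := ⟨(d + 2).toNat, by omega⟩
  have hs := small_solutions
  simp only [List.all_eq_true, List.mem_range] at hs
  have := hs a' (by omega) b' (by omega) c' (by omega) d' (by omega)
  simp only [h, h', decide_true, Bool.and_self, Bool.not_true, Bool.false_or,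
    List.contains_iff_mem, List.mem_cons, Prod.mk.injEq, List.not_mem_nil, or_false] at this
  omega

theorem wList_eq : appWord tWord eList =
    (List.range 24).map fun i => ![4, -2, 2, 0] (sel i) := by decide +kernel

/-- The images of the axis under the centraliser of the element of order 11. -/
theorem axis_cases (g : St) (hg : g * gs = gs * g) :
    (g : Co0) • eightE none = eightE none ∨ (g : Co0) • eightE none = (gt : Co0) • eightE none := by
  have hfix : (gs : Co0) • ((g : Co0) • eightE none) = (g : Co0) • eightE none := by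
    have hc : (g : Co0) * (gs : Co0) = (gs : Co0) * (g : Co0) := congrArg Subtype.val hg
    rw [← mul_smul, ← hc, mul_smul]
    congr 1
    apply lv_injective
    rw [lv_gs, lv_eight, sList_fix]
  have hL := gs_fixed hfix
  set w := (g : Co0) • eightE none with hw
  generalize ent (lv w) 23 = a, ent (lv w) 0 = b, ent (lv w) 1 = c, ent (lv w) 5 = d at hL
  obtain ⟨hn, hd⟩ := norm_formula w a b c d hL
  have hn64 : sqNorm (vec w) = 64 := by rw [hw, norm_smul', sqNorm_eightE]
  have hd40 : dotInt (vec Spor.leechV) (vec w) = -40 := by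
    have e := dot_smul (g : Co0) Spor.leechV (eightE none)
    rw [MulAction.mem_stabilizer_iff.1 g.2, ← hw] at e
    rw [e]
    decide +kernel
  rw [hn] at hn64
  rw [hd] at hd40
  rcases four_squares hn64 (by omega) with ⟨rfl, rfl, rfl, rfl⟩ | ⟨rfl, rfl, rfl, rfl⟩ |
      ⟨rfl, rfl, rfl, rfl⟩
  · refine Or.inl (lv_injective ?_)
    rw [hL]
    decide +kernel
  · refine Or.inr (lv_injective ?_)
    rw [hL, lv_gt, lv_eight, wList_eq]
  · exfalso
    have hdvd := dotInt_dvd w.2 ((gt : Co0) • eightE none).2
    have e : dotInt (vec w) (vec ((gt : Co0) • eightE none)) = 20 := by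
      refine (sum_pts fun q => vec w q * vec ((gt : Co0) • eightE none) q).trans ?_
      rw [List.map_congr_left fun i hi => show vec w (pt i) * vec ((gt : Co0) • eightE none) (pt i) =
        ent ((List.range 24).map fun i => ![4, -2, 0, 2] (sel i)) i *
          ent (appWord tWord eList) i by
          rw [← ent_lv w (List.mem_range.1 hi), ← ent_lv _ (List.mem_range.1 hi), hL, lv_gt,
            lv_eight]]
      decide +kernel
    have hdvd' : (8 : ℤ) ∣ 20 := e ▸ hdvd
    norm_num at hdvd'

/-- A candidate for a permutation commuting with the multiplication by two. -/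
def cand (q r : ℕ) : ℕ :=
  packW 5 (fun i => if i = 23 then 23 else if i = 0 then 0
    else (List.range 11).foldr (fun k acc => if 2 ^ k % 23 = i then 2 ^ k * q % 23
      else if 2 ^ k * 5 % 23 = i then 2 ^ k * r % 23 else acc) 0) 24

theorem cand_check : ((List.range 23).all fun q => (List.range 23).all fun r =>
    !inM24 (cand q r) || (List.range 11).any fun k => (List.range 23).all fun i =>
      getW 5 (cand q r) i == 2 ^ k * i % 23) = true := by
  decide +kernel

/-- Automorphisms fixing the axis and commuting with the element of order 11. -/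
theorem cent_axis (g : St) (hg : g * gs = gs * g) (he : (g : Co0) • eightE none = eightE none) :
    ∃ k < 11, g = gs ^ k := by
  obtain ⟨σ, hσ, c, hc, hgm⟩ := exists_monomial (axis_of_one (i := none) (j := none) (Or.inl he))
  have hσn : σ none = none := by
    rw [hgm, monomial_apply_eightE] at he
    split_ifs at he
    · exact eightE_inj (Or.inr (by rw [← he, neg_neg]))
    · exact eightE_inj (Or.inl he)
  have hc0 : c = ∅ := by
    have hfix := fix_oddTop g
    rw [hgm] at hfix
    have hsub : c ⊆ {none} := by
      intro i hi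
      rw [Finset.mem_singleton]
      by_contra hne
      have h1 := congrFun (congrArg vec hfix) i
      have h2 : σ.symm i ≠ none := by
        rw [ne_eq, Equiv.symm_apply_eq, hσn]; exact hne
      rw [monomial_smul] at h1
      simp [signedPerm, hi, oddTop, vec, h2, hne] at h1
    have h1 := Finset.card_le_card hsub
    rw [Finset.card_singleton] at h1
    have := hc.weights
    exact Finset.card_eq_zero.mp (by omega)
  subst hc0
  have hgp : (g : Co0) = permHom ⟨σ, hσ⟩ := hgm
  -- the multiplication by two
  have hs2 : ∀ i < 23, ∀ j, j = 2 * i % 23 →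
      (gs : Co0) • eightE (pt i) = eightE (pt j) := by
    intro i hi j hj
    apply lv_injective
    rw [lv_gs]
    subst hj
    revert i
    decide +kernel
  have hmul : ∀ i < 23, ∀ j < 23, idx (σ (pt i)) = j →
      idx (σ (pt (2 * i % 23))) = 2 * j % 23 := by
    intro i hi j hj hij
    have hc : (g : Co0) * (gs : Co0) = (gs : Co0) * (g : Co0) := congrArg Subtype.val hg
    have e := congrArg (· • eightE (pt i)) hc
    simp only [mul_smul, hs2 i hi _ rfl, hgp, permHom_eightE] at e
    have hp : σ (pt i) = pt j := by rw [← hij, pt_idx]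
    rw [hp, hs2 j hj _ rfl] at e
    rw [eightE_inj (Or.inl e), idx_pt (by omega)]
  have hlt : ∀ i < 23, idx (σ (pt i)) < 23 := by
    intro i hi
    have h1 := idx_lt (σ (pt i))
    by_contra h2
    have h3 : σ (pt i) = σ none := by
      rw [hσn, ← pt_idx (σ (pt i)), show idx (σ (pt i)) = 23 by omega]
      rfl
    have h4 := congrArg idx (σ.injective h3)
    rw [idx_pt (by omega)] at h4
    exact absurd h4 (by show i ≠ 23; omega)
  have h0 : idx (σ (pt 0)) = 0 := by
    have h1 := hlt 0 (by norm_num)
    have h2 := hmul 0 (by norm_num) _ h1 rfl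
    rw [show 2 * 0 % 23 = 0 from rfl] at h2
    omega
  set q := idx (σ (pt 1)) with hq
  set r := idx (σ (pt 5)) with hr
  have hpow : ∀ i < 23, ∀ k : ℕ, idx (σ (pt (2 ^ k * i % 23))) = 2 ^ k * idx (σ (pt i)) % 23 := by
    intro i hi k
    induction k with
    | zero => rw [pow_zero, one_mul, one_mul, Nat.mod_eq_of_lt hi, Nat.mod_eq_of_lt (hlt i hi)]
    | succ k ih =>
      have := hmul _ (Nat.mod_lt _ (by norm_num)) _ (Nat.mod_lt _ (by norm_num)) ih
      rw [pow_succ', mul_assoc, mul_assoc, Nat.mul_mod, Nat.mod_eq_of_lt (show 2 < 23 by norm_num),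
        this, Nat.mul_mod_mod]
  have hσcode : ∀ i < 24, getW 5 (cand q r) i = idx (σ (pt i)) := by
    have hq23 : q < 23 := hlt 1 (by norm_num)
    have hr23 : r < 23 := hlt 5 (by norm_num)
    intro i hi
    rw [cand, Computation.getW_packW ?_ hi]
    · have hcase : ∀ j < 24, j = 23 ∨ j = 0 ∨
          (List.range 11).any (fun k => (List.range 11).foldr (fun k acc =>
            if 2 ^ k % 23 = j then (k, true) else if 2 ^ k * 5 % 23 = j then (k, false) else acc)
              (0, true) == (k, true) && 2 ^ k * 1 % 23 == j) = true ∨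
          (List.range 11).any (fun k => (List.range 11).foldr (fun k acc =>
            if 2 ^ k % 23 = j then (k, true) else if 2 ^ k * 5 % 23 = j then (k, false) else acc)
              (0, true) == (k, false) && 2 ^ k * 5 % 23 == j) = true := by decide +kernel
      have hfold : ∀ l : List ℕ, (l.foldr (fun k acc => if 2 ^ k % 23 = i then 2 ^ k * q % 23
          else if 2 ^ k * 5 % 23 = i then 2 ^ k * r % 23 else acc) 0) =
          (if l.any (fun k => 2 ^ k % 23 == i || 2 ^ k * 5 % 23 == i) then
            (fun p : ℕ × Bool => 2 ^ p.1 * (if p.2 then q else r) % 23) (l.foldr (fun k acc =>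
              if 2 ^ k % 23 = i then (k, true) else if 2 ^ k * 5 % 23 = i then (k, false) else acc)
              (0, true))
          else 0) := by
        intro l
        induction l with
        | nil => rfl
        | cons k l ih =>
          simp only [List.foldr_cons, List.any_cons]
          by_cases h1 : 2 ^ k % 23 = i
          · simp [h1]
          · by_cases h2 : 2 ^ k * 5 % 23 = i
            · simp [h1, h2]
            · simp [h1, h2, ih]
      rcases hcase i hi with rfl | rfl | hk | hk
      · rw [if_pos rfl, show pt 23 = none from rfl, hσn]; rfl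
      · rw [if_neg (by norm_num), if_pos rfl, h0]
      all_goals
        obtain ⟨k, hk11, hk⟩ := List.any_eq_true.1 hk
        simp only [Bool.and_eq_true, beq_iff_eq] at hk
        have hi23 : i < 23 := hk.2 ▸ Nat.mod_lt _ (by norm_num)
        have hi0 : i ≠ 0 := fun h0i => by
          have := hk.2
          rw [h0i] at this
          revert this
          have hk' := List.mem_range.1 hk11
          clear hk
          revert k
          decide
        rw [if_neg (by omega), if_neg hi0, hfold, if_pos, hk.1]
        · simp only [Bool.false_eq_true, if_true, if_false]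
          rw [← hk.2, hpow _ (by norm_num) k]
        · refine List.any_eq_true.2 ⟨k, hk11, ?_⟩
          simp only [Bool.or_eq_true, beq_iff_eq]
          try simp only [mul_one] at hk
          first | exact Or.inl hk.2 | exact Or.inr hk.2
    · intro j _
      split_ifs
      · norm_num
      · norm_num
      · have : ∀ l : List ℕ, (l.foldr (fun k acc => if 2 ^ k % 23 = j then 2 ^ k * q % 23
            else if 2 ^ k * 5 % 23 = j then 2 ^ k * r % 23 else acc) 0) < 2 ^ 5 := by
          intro l
          induction l with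
          | nil => norm_num
          | cons k l ih =>
            simp only [List.foldr_cons]
            split_ifs <;> omega
        exact this _
  have hok : okCode (cand q r) = true :=
    Computation.okPerm_of_getW (Golay.indexHom.symm σ) fun i => by
      rw [hσcode i i.isLt]
      rfl
  have hg' : gperm (cand q r) = σ := (eq_gperm hok fun p => by
    rw [imgCode, hσcode _ (idx_lt p), pt_idx, pt_idx]).symm
  have hin : inM24 (cand q r) = true := by
    simp only [inM24, hok, Bool.true_and, List.all_eq_true]
    intro row hrow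
    rw [← wordOfMask_mem_iff (permMask_lt hok row), ← Leech.ind_support₂ (wordOfMask _),
      ← Leech.isCode_iff, support₂_wordOfMask, ← smul_setOfMask hok, hg', Leech.smul_eq_map]
    refine IsCode.map hσ ?_
    rw [← support₂_wordOfMask, Leech.isCode_iff, Leech.ind_support₂]
    exact wordOfMask_mem (List.all_eq_true.1 (by decide +kernel : rows.all inCode = true) row hrow)
  have h := List.all_eq_true.1 cand_check q (List.mem_range.2 (hlt 1 (by norm_num)))
  have h := List.all_eq_true.1 h r (List.mem_range.2 (hlt 5 (by norm_num)))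
  rw [hin] at h
  simp only [Bool.not_true, Bool.false_or, List.any_eq_true, List.mem_range, List.all_eq_true,
    beq_iff_eq] at h
  obtain ⟨k, hk, hki⟩ := h
  refine ⟨k, hk, Subtype.ext (co0_ext fun p => ?_)⟩
  rw [hgp, permHom_eightE, SubgroupClass.coe_pow]
  have hgsk : ∀ n : ℕ, ∀ i < 23, ((gs : Co0) ^ n) • eightE (pt i) = eightE (pt (2 ^ n * i % 23)) := by
    intro n
    induction n with
    | zero => intro i hi; rw [pow_zero, one_smul, pow_zero, one_mul, Nat.mod_eq_of_lt hi]
    | succ n ih =>
      intro i hi
      rw [pow_succ', mul_smul, ih i hi, hs2 _ (Nat.mod_lt _ (by norm_num)) _ rfl, pow_succ',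
        mul_assoc, Nat.mul_mod_mod]
  show eightE (σ p) = _
  rcases Nat.lt_or_ge (idx p) 23 with hp | hp
  · rw [← pt_idx p, hgsk k _ hp, ← hki _ hp, hσcode _ (idx_lt p), pt_idx, pt_idx]
  · have hpn : p = none := by
      rw [← pt_idx p, show idx p = 23 from le_antisymm (Nat.le_of_lt_succ (idx_lt p)) hp]; rfl
    subst hpn
    rw [hσn]
    clear * -
    induction k with
    | zero => rw [pow_zero, one_smul]
    | succ k ih =>
      rw [pow_succ', mul_smul, ← ih]
      apply lv_injective
      rw [lv_gs, lv_eight, sList_fix]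

/-- The centraliser of the element of order 11. -/
theorem cent_s (g : St) (hg : g * gs = gs * g) (ht : gt * gs = gs * gt) (ht2 : gt * gt = 1) :
    ∃ k < 11, g = gs ^ k ∨ g = gt * gs ^ k := by
  rcases axis_cases g hg with h | h
  · obtain ⟨k, hk, e⟩ := cent_axis g hg h
    exact ⟨k, hk, Or.inl e⟩
  · obtain ⟨k, hk, e⟩ := cent_axis (gt * g)
      (by rw [mul_assoc, hg, ← mul_assoc, ht, mul_assoc])
      (by rw [Subgroup.coe_mul, mul_smul, h, ← mul_smul, ← Subgroup.coe_mul, ht2, Subgroup.coe_one,
        one_smul])
    exact ⟨k, hk, Or.inr (by rw [← e, ← mul_assoc, ht2, one_mul])⟩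

end Cfsg.Agent.Lib.Co3Model
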