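import Cfsg.Agent.Lib.Co3Model.Out
import Cfsg.Agent.Lib.Co3Model.HSChain
import Cfsg.Agent.Lib.Leech.McLHS

/-!
# The Higman-Sims group inside the group on 276 points

`Hs` is the stabiliser of `leechU'` in the stabiliser of `leechV`; on the 276 points it is the group
generated by two certified codes.
-/

set_option autoImplicit false

namespace Cfsg.Agent.Lib.Co3Model.HS

open Cfsg Cfsg.Agent.Lib.Leech
open Cfsg.Agent.Lib.Computation (getW decodeP okPerm permRep)

/-- The stabiliser of the second vector. -/
noncomputable def Hs : Subgroup St := (MulAction.stabilizer Co0 Spor.leechU').subgroupOf St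

/-- The Higman-Sims group is this stabiliser. -/
noncomputable def hsEquiv : ↥Spor.HS ≃* Hs where
  toFun g := ⟨⟨⟨g.1, g.2.1.1⟩, g.2.1.2⟩, g.2.2⟩
  invFun g := ⟨g.1.1.1, ⟨g.1.1.2, g.1.2⟩, g.2⟩
  left_inv _ := rfl
  right_inv _ := rfl
  map_mul' _ _ := rfl

/-- The third vector of the pair. -/
noncomputable def wW : leechLattice := -(Spor.leechV + Spor.leechU')

theorem card_Hs : Nat.card Hs = 44352000 := by
  have hd : dotInt (vec Spor.leechV) (vec wW) = -32 := by decide +kernel
  have hn : sqNorm (vec Spor.leechV) = 48 := by decide +kernel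
  have hw : sqNorm (vec wW) = 48 := by decide +kernel
  rw [← card_pair48_stab hn hw hd]
  refine Nat.card_congr
    { toFun := fun g => ⟨g.1.1, g.1.2, ?_⟩
      invFun := fun g => ⟨⟨g.1, g.2.1⟩, ?_⟩
      left_inv := fun _ => rfl
      right_inv := fun _ => rfl }
  · show g.1.1 • wW = wW
    show g.1.1 • -(Spor.leechV + Spor.leechU') = -(Spor.leechV + Spor.leechU')
    rw [smul_neg', smul_add', MulAction.mem_stabilizer_iff.1 g.1.2,
      MulAction.mem_stabilizer_iff.1 (Subgroup.mem_subgroupOf.1 g.2)]
  · show g.1 • Spor.leechU' = Spor.leechU'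
    have h : g.1 • -(Spor.leechV + Spor.leechU') = -(Spor.leechV + Spor.leechU') := g.2.2
    rw [smul_neg', smul_add', MulAction.mem_stabilizer_iff.1 g.2.1] at h
    exact add_left_cancel (neg_injective h)

/-- The lattice word of a letter. -/
def opsOf : Fin 3 → List Op := ![xWord, sWord, tWord]

/-- The lattice word of a word in the generators. -/
def wops (w : List (Fin 3)) : List Op := w.flatMap opsOf

theorem opsOf_ok : ∀ i, (opsOf i).all Op.ok = true := by decide +kernel

theorem gen_val (i : Fin 3) : ((![gx, gs, gt] i : St) : Co0) = wordElt (opsOf i) := by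
  fin_cases i <;> rfl

theorem appWord_append (a b : List Op) (L : List ℤ) : appWord (a ++ b) L = appWord a (appWord b L) := by
  induction a with
  | nil => rfl
  | cons o a ih => exact congrArg o.app ih

theorem lv_V : ∀ (w : List (Fin 3)) (v : leechLattice), lv ((V w : Co0) • v) = appWord (wops w) (lv v)
  | [], v => by
    show lv (((1 : St) : Co0) • v) = lv v
    rw [Subgroup.coe_one, one_smul]
  | i :: is, v => by
    show lv (((![gx, gs, gt] i * V is : St) : Co0) • v) = _
    rw [Subgroup.coe_mul, mul_smul, gen_val, lv_word (opsOf_ok i), lv_V is v]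
    exact (appWord_append _ _ _).symm

theorem genWs_fix : (genWs.all fun w => appWord (wops w) (lv Spor.leechU') == lv Spor.leechU') = true := by
  decide +kernel

theorem genWs_codes : ((List.range genWs.length).all fun k => okPerm 276 9 (img_gens.getD k 0) &&
    (List.range 276).all fun j => evalW (genWs.getD k []) j == getW 9 (img_gens.getD k 0) j) = true := by
  decide +kernel

theorem genWs_len : genWs.length = 2 ∧ img_gens.length = 2 := by decide +kernel

theorem toP_genWs {k : ℕ} (hk : k < 2) : toP (V (genWs.getD k [])) = decodeP 276 9 (img_gens.getD k 0) := by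
  have h := List.all_eq_true.1 genWs_codes k (List.mem_range.2 (by rw [genWs_len.1]; exact hk))
  simp only [Bool.and_eq_true, List.all_eq_true, List.mem_range, beq_iff_eq] at h
  refine Equiv.ext fun j => Fin.ext ?_
  rw [toP_apply, Computation.decodeP_apply h.1, h.2 j j.isLt]

theorem img_order : (permRep 276 9 (by decide)).order img_chain = 44352000 := by decide +kernel

theorem mem_Hs {k : ℕ} (hk : k < 2) : V (genWs.getD k []) ∈ Hs := by
  rw [Hs, Subgroup.mem_subgroupOf, MulAction.mem_stabilizer_iff]
  apply lv_injective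
  rw [lv_V]
  refine beq_iff_eq.1 (List.all_eq_true.1 genWs_fix _ ?_)
  rw [List.getD_eq_getElem _ _ (by rw [genWs_len.1]; exact hk)]
  exact List.getElem_mem _

/-- The image on the points is the certified group. -/
theorem map_Hs : Hs.map toP = Subgroup.closure (decodeP 276 9 '' {s | s ∈ img_gens}) := by
  refine (Subgroup.eq_of_le_of_card_ge ?_ ?_).symm
  · rw [Subgroup.closure_le]
    rintro _ ⟨c, hc, rfl⟩
    obtain ⟨k, hk, rfl⟩ := List.getElem_of_mem hc
    rw [← List.getD_eq_getElem _ 0 hk, ← toP_genWs (genWs_len.2 ▸ hk)]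
    exact Subgroup.mem_map_of_mem _ (mem_Hs (genWs_len.2 ▸ hk))
  · refine le_of_eq ?_
    rw [Subgroup.card_map_of_injective toP_injective, card_Hs, ← img_order]
    exact ((permRep 276 9 (by decide)).card_closure img_check).symm

/-- The certified group is isomorphic to the Higman-Sims group. -/
noncomputable def imgEquiv : Hs.map toP ≃* ↥Spor.HS :=
  (Subgroup.equivMapOfInjective Hs toP toP_injective).symm.trans hsEquiv.symm

end Cfsg.Agent.Lib.Co3Model.HS
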