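import Cfsg.Agent.Lib.Co3Model.HS
import Cfsg.Agent.Lib.Co3Model.HSCoverChain
import Cfsg.Agent.Lib.Co3Model.HSTwoData
import Cfsg.Agent.Lib.Co3Model.HSOddData
import Cfsg.Agent.Lib.Schur.InvertedAbelian
import Cfsg.Agent.Lib.Schur.PermMultKey
import Cfsg.Agent.Lib.Schur.SplitBlock

/-!
# The multiplier of the Higman-Sims group

A double cover on `704 + 276` points with trivial multiplier.
-/

set_option autoImplicit false
set_option Elab.async false

namespace Cfsg.Agent.Lib.Co3Model.HS

open Cfsg Cfsg.Agent.Lib.Schur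
open Cfsg.Agent.Lib.Computation (decodeP permRep mulP)
open Cfsg.Agent.Lib.Schur.PermMult (pone ppow pNotOne memC el el_has hasOne)
open scoped commutatorElement

/-- The cover as a group of permutations. -/
noncomputable abbrev K : Subgroup (Equiv.Perm (Fin 980)) := (permRep 980 10 (by decide)).grp cov_chain

theorem cov_ok : (permRep 980 10 (by decide)).checkChain cov_chain = true :=
  (permRep 980 10 (by decide)).checkChain_of_checkClosure cov_check

theorem cov_order : (permRep 980 10 (by decide)).order cov_chain = 88704000 := by decide +kernel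

theorem card_K : Nat.card K = 88704000 :=
  ((permRep 980 10 (by decide)).card_grp cov_ok).trans cov_order

instance finite_K : Finite K := Nat.finite_of_card_ne_zero (by rw [card_K]; norm_num)

/-- Points separating the Sylow 2-subgroup. -/
def twoPts : List ℕ := [704, 868, 941, 958, 907, 871, 916, 0, 1, 2]

set_option maxRecDepth 10000 in
theorem two_gens : PermMultKey.gensOk (n := 980) (w := 10) (by decide) cov_chain two = true := by
  decide +kernel

theorem two_tails : PermMultKey.tailsOk two = true := by decide +kernel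

theorem two_fusion : PermMultKey.fusionOk (n := 980) (w := 10) (by decide) cov_chain two = true := by
  decide +kernel

theorem two_rel : PermMultKey.relOk 980 10 two = true := by decide +kernel

theorem two_inj : PermMultKey.injOk 980 10 two twoPts = true := by decide +kernel

theorem three_ok : (memC (n := 980) (w := 10) (by decide) cov_chain threeA &&
    memC (n := 980) (w := 10) (by decide) cov_chain threeB &&
    memC (n := 980) (w := 10) (by decide) cov_chain threeN &&
    Nat.beq (ppow 980 10 threeB 3) (pone 980 10) &&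
    Nat.beq (mulP 980 10 threeA threeB) (mulP 980 10 threeB threeA) &&
    Nat.beq (mulP 980 10 threeN threeA) (mulP 980 10 threeB threeN) &&
    Nat.beq (mulP 980 10 threeN threeB) (mulP 980 10 threeA threeN)) = true := by
  decide +kernel

theorem three_gens_eq : three_gens = [threeA, threeB] := by decide +kernel

theorem three_order : (permRep 980 10 (by decide)).order three_chain = 9 := by decide +kernel

theorem exists_three : ∃ P : Subgroup K, ¬ 3 ∣ P.index ∧ Fusion.KillsPart 3 P := by
  have hok := three_ok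
  simp only [Bool.and_eq_true] at hok
  obtain ⟨⟨⟨⟨⟨⟨ha, hb⟩, hn⟩, hb3⟩, hab⟩, hna⟩, hnb⟩ := hok
  have ia := el_has cov_ok ha
  have ib := el_has cov_ok hb
  have i_n := el_has cov_ok hn
  refine ⟨Subgroup.closure {el cov_ok ha, el cov_ok hb}, fun hd => ?_,
    Fusion.killsPart_of_swap 3 _ (el cov_ok ha) (el cov_ok hb) (el cov_ok hn) (e := 3) (by decide) le_rfl
      ((ia.mul ib).eq (ib.mul ia) hab) ((ib.pow 3).eq hasOne hb3)
      (mul_inv_eq_iff_eq_mul.2 ((i_n.mul ia).eq (ib.mul i_n) hna))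
      (mul_inv_eq_iff_eq_mul.2 ((i_n.mul ib).eq (ia.mul i_n) hnb))⟩
  have h := Nat.mul_dvd_mul_left (Nat.card (Subgroup.closure {el cov_ok ha, el cov_ok hb})) hd
  rw [Subgroup.card_mul_index, PermMult.card_closure_eq cov_ok ha hb three_gens_eq three_check,
    three_order, card_K] at h
  norm_num at h

theorem five_ok : (memC (n := 980) (w := 10) (by decide) cov_chain fiveA &&
    memC (n := 980) (w := 10) (by decide) cov_chain fiveB &&
    memC (n := 980) (w := 10) (by decide) cov_chain fiveC &&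
    memC (n := 980) (w := 10) (by decide) cov_chain fiveM1 &&
    memC (n := 980) (w := 10) (by decide) cov_chain fiveM2 &&
    Nat.beq (ppow 980 10 fiveA 5) (pone 980 10) && Nat.beq (ppow 980 10 fiveB 5) (pone 980 10) &&
    Nat.beq (ppow 980 10 fiveC 5) (pone 980 10) && pNotOne 980 10 fiveC &&
    Nat.beq (mulP 980 10 fiveA fiveB) (mulP 980 10 (mulP 980 10 fiveC fiveB) fiveA) &&
    Nat.beq (mulP 980 10 fiveC fiveA) (mulP 980 10 fiveA fiveC) &&
    Nat.beq (mulP 980 10 fiveC fiveB) (mulP 980 10 fiveB fiveC) &&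
    Nat.beq (mulP 980 10 fiveM1 fiveC) (mulP 980 10 (ppow 980 10 fiveC 4) fiveM1) &&
    Nat.beq (mulP 980 10 fiveM1 fiveA)
      (mulP 980 10 (mulP 980 10 (ppow 980 10 fiveA 2) (ppow 980 10 fiveC 0)) fiveM1) &&
    Nat.beq (mulP 980 10 fiveM2 fiveC) (mulP 980 10 (ppow 980 10 fiveC 4) fiveM2) &&
    Nat.beq (mulP 980 10 fiveM2 fiveB)
      (mulP 980 10 (mulP 980 10 (ppow 980 10 fiveB 2) (ppow 980 10 fiveC 0)) fiveM2)) = true := by
  decide +kernel

theorem five_gens_eq : five_gens = [fiveA, fiveB] := by decide +kernel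

theorem five_order : (permRep 980 10 (by decide)).order five_chain = 125 := by decide +kernel

theorem exists_five : ∃ P : Subgroup K, ¬ 5 ∣ P.index ∧ Fusion.KillsPart 5 P := by
  have hok := five_ok
  simp only [Bool.and_eq_true] at hok
  obtain ⟨⟨⟨⟨⟨⟨⟨⟨⟨⟨⟨⟨⟨⟨⟨ha, hb⟩, hcm⟩, hm1⟩, hm2⟩, ha5⟩, hb5⟩, hc5⟩, hc1⟩, hab⟩, hca⟩, hcb⟩, f1⟩, f2⟩,
    f3⟩, f4⟩ := hok
  have ia := el_has cov_ok ha
  have ib := el_has cov_ok hb
  have ic := el_has cov_ok hcm
  have j1 := el_has cov_ok hm1
  have j2 := el_has cov_ok hm2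
  refine ⟨Subgroup.closure {el cov_ok ha, el cov_ok hb}, fun hd => ?_,
    InvertedAbelian.killsPart_extraspecial (by norm_num) _ _ (el cov_ok hcm) (el cov_ok hm1)
      (el cov_ok hm2) (a₁ := 4) (b₁ := 2) (i₁ := 0) (a₂ := 4) (b₂ := 2) (i₂ := 0)
      ((ia.pow 5).eq hasOne ha5) ((ib.pow 5).eq hasOne hb5) ((ic.pow 5).eq hasOne hc5) (ic.ne_one hc1) ?_
      ((ic.mul ia).eq (ia.mul ic) hca) ((ic.mul ib).eq (ib.mul ic) hcb) (by norm_num) (by norm_num)
      (mul_inv_eq_iff_eq_mul.2 ((j1.mul ic).eq ((ic.pow _).mul j1) f1))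
      (mul_inv_eq_iff_eq_mul.2 ((j1.mul ia).eq (((ia.pow _).mul (ic.pow _)).mul j1) f2))
      (mul_inv_eq_iff_eq_mul.2 ((j2.mul ic).eq ((ic.pow _).mul j2) f3))
      (mul_inv_eq_iff_eq_mul.2 ((j2.mul ib).eq (((ib.pow _).mul (ic.pow _)).mul j2) f4))⟩
  · have h := Nat.mul_dvd_mul_left (Nat.card (Subgroup.closure {el cov_ok ha, el cov_ok hb})) hd
    rw [Subgroup.card_mul_index, PermMult.card_closure_eq cov_ok ha hb five_gens_eq five_check,
      five_order, card_K] at h
    norm_num at h
  · rw [commutatorElement_def, mul_inv_eq_iff_eq_mul, mul_inv_eq_iff_eq_mul]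
    exact (ia.mul ib).eq ((ic.mul ib).mul ia) hab

theorem el7_ok : (memC (n := 980) (w := 10) (by decide) cov_chain el7 &&
    Nat.beq (ppow 980 10 el7 7) (pone 980 10) && pNotOne 980 10 el7) = true := by decide +kernel

theorem el11_ok : (memC (n := 980) (w := 10) (by decide) cov_chain el11 &&
    Nat.beq (ppow 980 10 el11 11) (pone 980 10) && pNotOne 980 10 el11) = true := by decide +kernel

theorem multiplier_K : HasCyclicSchurMultiplier K 1 := by
  refine Fusion.hasTrivialMultiplier fun p hp hd => ?_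
  rw [card_K, show (88704000 : ℕ) = 2 ^ 10 * 3 ^ 2 * 5 ^ 3 * 7 * 11 by norm_num] at hd
  simp only [hp.dvd_mul] at hd
  have one := fun {q : ℕ} (hq : q.Prime) (hd : p ∣ q) => (Nat.prime_dvd_prime_iff_eq hp hq).1 hd
  rcases hd with (((h | h) | h) | h) | h
  · obtain rfl := one Nat.prime_two (hp.dvd_of_dvd_pow h)
    exact PermMultKey.exists_two cov_ok two_gens two_tails two_fusion two_rel two_inj (by rw [card_K]; show ¬ 2 ^ 11 ∣ _; norm_num)
  · obtain rfl := one Nat.prime_three (hp.dvd_of_dvd_pow h)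
    exact exists_three
  · obtain rfl := one (by norm_num) (hp.dvd_of_dvd_pow h)
    exact exists_five
  · obtain rfl := one (by norm_num) h
    exact PermMult.exists_cyclic (hw := (by decide : 980 ≤ 2 ^ 10)) (q := 7) (c := el7) cov_ok hp el7_ok (by rw [card_K]; norm_num)
  · obtain rfl := one (by norm_num) h
    exact PermMult.exists_cyclic (hw := (by decide : 980 ≤ 2 ^ 10)) (q := 11) (c := el11) cov_ok hp el11_ok (by rw [card_K]; norm_num)

theorem blocks_ok : (blocks.all fun t => SplitBlock.blockOk 704 276 10 10 9 t.1 t.2.1 t.2.2) = true := by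
  decide +kernel

theorem blocks_gens : blocks.map (fun t => t.1) = cov_gens ∧ blocks.map (fun t => t.2.2) = img_gens := by
  decide +kernel

theorem z_ok : (memC (n := 980) (w := 10) (by decide) cov_chain zC &&
    memC (n := 980) (w := 10) (by decide) cov_chain xC &&
    memC (n := 980) (w := 10) (by decide) cov_chain yC && pNotOne 980 10 zC &&
    SplitBlock.blockOk 704 276 10 10 9 zC zBlock (pone 276 9) &&
    Nat.beq (mulP 980 10 zC zC) (pone 980 10) &&
    Nat.beq (mulP 980 10 xC yC) (mulP 980 10 (mulP 980 10 zC yC) xC) &&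
    cov_gens.all fun c => Computation.okPerm 980 10 c &&
      Nat.beq (mulP 980 10 c zC) (mulP 980 10 zC c)) = true := by
  decide +kernel

theorem exists_proj : ∃ σ : K →* ↥Spor.HS, Function.Surjective σ ∧
    ∀ (g : K) (c a : ℕ), SplitBlock.blockOk 704 276 10 10 9 c a (pone 276 9) = true →
      (g : Equiv.Perm (Fin 980)) = decodeP 980 10 c → σ g = 1 := by
  classical
  let S : Set (Equiv.Perm (Fin 980)) := decodeP 980 10 '' {s | s ∈ cov_gens}
  have hK : K = Subgroup.closure S := ((permRep 980 10 (by decide)).closure_eq_grp cov_check).symm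
  have hgens : ∀ c ∈ cov_gens, ∃ t ∈ blocks, t.1 = c := fun c hc => by
    rw [← blocks_gens.1] at hc
    exact List.mem_map.1 hc
  have hblk : ∀ t ∈ blocks, SplitBlock.blockOk 704 276 10 10 9 t.1 t.2.1 t.2.2 = true := fun t ht =>
    List.all_eq_true.1 blocks_ok t ht
  have hle : K ≤ (SplitBlock.blockEmb 704 276).range := by
    rw [hK, Subgroup.closure_le]
    rintro _ ⟨c, hc, rfl⟩
    obtain ⟨t, ht, rfl⟩ := hgens c hc
    exact ⟨_, (SplitBlock.decodeP_block (hblk t ht)).symm⟩
  let π : K →* Equiv.Perm (Fin 276) := (SplitBlock.proj 704 276).comp (Subgroup.inclusion hle)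
  have htop : Subgroup.closure (K.subtype ⁻¹' S) = ⊤ := by
    apply Subgroup.map_injective K.subtype_injective
    rw [MonoidHom.map_closure, ← MonoidHom.range_eq_map, Subgroup.range_subtype]
    conv_rhs => rw [hK]
    congr 1
    refine Set.image_preimage_eq_of_subset ?_
    rw [Subgroup.coe_subtype, Subtype.range_coe]
    intro x hx
    rw [hK]
    exact Subgroup.subset_closure hx
  have hrange : π.range = Hs.map toP := by
    rw [map_Hs, MonoidHom.range_eq_map, ← htop, MonoidHom.map_closure]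
    congr 1
    ext y
    constructor
    · rintro ⟨g, ⟨c, hc, hg⟩, rfl⟩
      obtain ⟨t, ht, rfl⟩ := hgens c hc
      exact ⟨t.2.2, blocks_gens.2 ▸ List.mem_map.2 ⟨t, ht, rfl⟩,
        (SplitBlock.proj_of_block (hblk t ht) _ hg.symm).symm⟩
    · rintro ⟨b, hb, rfl⟩
      rw [Set.mem_ofPred_eq, ← blocks_gens.2] at hb
      obtain ⟨t, ht, rfl⟩ := List.mem_map.1 hb
      have hc : t.1 ∈ cov_gens := blocks_gens.1 ▸ List.mem_map.2 ⟨t, ht, rfl⟩
      refine ⟨⟨decodeP 980 10 t.1, hK ▸ Subgroup.subset_closure ⟨_, hc, rfl⟩⟩, ⟨_, hc, rfl⟩, ?_⟩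
      exact SplitBlock.proj_of_block (hblk t ht) _ rfl
  have hmem : ∀ g, π g ∈ Hs.map toP := fun g => hrange ▸ ⟨g, rfl⟩
  refine ⟨imgEquiv.toMonoidHom.comp (π.codRestrict _ hmem), imgEquiv.surjective.comp fun y => ?_, ?_⟩
  · obtain ⟨g, hg⟩ : (y : Equiv.Perm (Fin 276)) ∈ π.range := by rw [hrange]; exact y.2
    exact ⟨g, Subtype.ext hg⟩
  · intro g c a h hg
    have h1 : π g = 1 := by
      rw [show π g = decodeP 276 9 (pone 276 9) from SplitBlock.proj_of_block h _ hg]
      exact (permRep 276 9 (by decide)).val_one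
    exact imgEquiv.map_eq_one_iff.2 (Subtype.ext h1)

theorem card_HS : Nat.card ↥Spor.HS = 44352000 := (Nat.card_congr hsEquiv.toEquiv).trans card_Hs

theorem multiplier_HS : HasCyclicSchurMultiplier ↥Spor.HS 2 := by
  obtain ⟨σ, hσ, hσb⟩ := exists_proj
  have h := z_ok
  simp only [Bool.and_eq_true, List.all_eq_true] at h
  obtain ⟨⟨⟨⟨⟨⟨⟨hz, hx⟩, hy⟩, hz1⟩, hblock⟩, hzz⟩, hxy⟩, hcomm⟩ := h
  have iz := el_has cov_ok hz
  have ix := el_has cov_ok hx
  have iy := el_has cov_ok hy
  set z := el cov_ok hz with hzdef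
  have hzσ : σ z = 1 := hσb z _ _ hblock iz.2
  have hcard : Nat.card σ.ker = 2 := by
    have h1 := σ.ker.card_mul_index
    rw [Subgroup.index_ker, MonoidHom.range_eq_top.2 hσ, Subgroup.card_top, card_HS, card_K] at h1
    omega
  have hz2 : z ^ 2 = 1 := by rw [pow_two]; exact (iz.mul iz).eq hasOne hzz
  have : Fact (Nat.Prime 2) := ⟨Nat.prime_two⟩
  have hker : σ.ker = Subgroup.zpowers z := (Subgroup.eq_of_le_of_card_ge
    (Subgroup.zpowers_le.2 hzσ) (by
      rw [hcard, Nat.card_zpowers, orderOf_eq_prime hz2 (iz.ne_one hz1)])).symm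
  have hcen : z ∈ Subgroup.center K := by
    rw [Subgroup.mem_center_iff]
    intro g
    have hle : K ≤ Subgroup.centralizer {(z : Equiv.Perm (Fin 980))} := by
      rw [show K = Subgroup.closure (decodeP 980 10 '' {s | s ∈ cov_gens}) from
        ((permRep 980 10 (by decide)).closure_eq_grp cov_check).symm, Subgroup.closure_le]
      rintro _ ⟨c, hc, rfl⟩
      rw [SetLike.mem_coe, Subgroup.mem_centralizer_singleton_iff, iz.2]
      obtain ⟨hok, he⟩ := hcomm c hc
      rw [← Computation.decodeP_mulP hok iz.1, ← Computation.decodeP_mulP iz.1 hok,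
        Nat.eq_of_beq_eq_true he]
    exact Subtype.ext (Subgroup.mem_centralizer_singleton_iff.1 (hle g.2))
  have hstem : IsStemExtension σ := by
    refine ⟨hσ, hker ▸ Subgroup.zpowers_le.2 hcen, hker ▸ Subgroup.zpowers_le.2 ?_⟩
    have he : ⁅el cov_ok hx, el cov_ok hy⁆ = z := by
      rw [commutatorElement_def, mul_inv_eq_iff_eq_mul, mul_inv_eq_iff_eq_mul]
      exact (ix.mul iy).eq ((iz.mul iy).mul ix) hxy
    rw [← he]
    exact Subgroup.commutator_mem_commutator (Subgroup.mem_top _) (Subgroup.mem_top _)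
  have : IsCyclic σ.ker := isCyclic_of_prime_card hcard
  exact PermMult.hasSchurMultiplier_of_cover σ hstem multiplier_K
    (mulEquivOfCyclicCardEq (by rw [hcard, Nat.card_congr Multiplicative.toAdd, Nat.card_zmod]))

end Cfsg.Agent.Lib.Co3Model.HS
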