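import Cfsg.Agent.Lib.Co3Model.MultTwoData
import Cfsg.Agent.Lib.Co3Model.MultOddData
import Cfsg.Agent.Lib.Co3Model.Model
import Cfsg.Agent.Lib.Schur.InvertedAbelian
import Cfsg.Agent.Lib.Schur.Universe

/-!
# The multiplier of the third Conway group

For each prime a subgroup of prime-to-`p` index on the 276 points kills the `p`-part.
-/

set_option autoImplicit false

namespace Cfsg.Agent.Lib.Co3Model

open Cfsg Cfsg.Agent.Lib.Schur
open Cfsg.Agent.Lib.Computation (getW decodeP permRep)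
open Cfsg.Agent.Lib.Schur.PermMult (pone ppow pword pNotOne memC Has el el_has hasOne has_word)

/-- The certified group. -/
noncomputable abbrev G276 : Subgroup (Equiv.Perm (Fin 276)) := (permRep 276 9 (by decide)).grp co3_chain

theorem co3_chain_ok : (permRep 276 9 (by decide)).checkChain co3_chain = true :=
  (permRep 276 9 (by decide)).checkChain_of_checkClosure co3_check

set_option maxRecDepth 10000 in
theorem two_ok : PermMult.twoOk (n := 276) (w := 9) (by decide) co3_chain two = true := by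
  decide +kernel

/-- The word of a combination of the basis. -/
def expWord (e : List ℕ) : List ℕ :=
  (List.range 5).flatMap fun j => List.replicate (e.getD j 0) j

/-- The shorthand for the product of codes. -/
def m2 (a b : ℕ) : ℕ := Computation.mulP 276 9 a b

/-- A power of a code. -/
def p2 (a k : ℕ) : ℕ := ppow 276 9 a k

/-- The checks at three. -/
noncomputable def threeOk : Bool :=
  let mem := fun c => memC (n := 276) (w := 9) (by decide) co3_chain c
  let one := pone 276 9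
  mem threeA && mem threeB && mem threeT && mem threeN &&
    ((List.range 5).all fun i =>
      let v := threeV.getD i one
      mem v && Nat.beq (p2 v 3) one && Nat.beq (m2 threeT v) (m2 (p2 v 2) threeT) &&
        ((List.range 5).all fun j => Nat.beq (m2 v (threeV.getD j one)) (m2 (threeV.getD j one) v)) &&
        Nat.beq (m2 threeA v) (m2 (pword 276 9 threeV (expWord (threeExpA.getD i []))) threeA) &&
        Nat.beq (m2 threeB v) (m2 (pword 276 9 threeV (expWord (threeExpB.getD i []))) threeB) &&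
        (List.range 5).all fun j => !Nat.blt i j || threePairs.any fun d =>
          Nat.beq d.1 i && Nat.beq d.2.1 j && mem d.2.2.1 &&
          !Nat.beq (d.2.2.2.1 * d.2.2.2.2.2.2 % 3) ((d.2.2.2.2.1 * d.2.2.2.2.2.1 + 1) % 3) &&
          Nat.beq (m2 d.2.2.1 v)
            (m2 (m2 (p2 v d.2.2.2.1) (p2 (threeV.getD j one) d.2.2.2.2.1)) d.2.2.1) &&
          Nat.beq (m2 d.2.2.1 (threeV.getD j one))
            (m2 (m2 (p2 v d.2.2.2.2.2.1) (p2 (threeV.getD j one) d.2.2.2.2.2.2)) d.2.2.1)) &&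
    Nat.beq (m2 threeT threeT) one && Nat.beq (m2 threeT threeA) (m2 threeA threeT) &&
    Nat.beq (m2 threeT threeB) (m2 threeB threeT) && Nat.beq (p2 threeA 3) one &&
    Nat.beq (p2 threeB 3) one && Nat.beq (m2 threeA threeB) (m2 threeB threeA) &&
    Nat.beq (m2 threeN threeA) (m2 threeB threeN) && Nat.beq (m2 threeN threeB) (m2 threeA threeN)

theorem threeOk_ok : threeOk = true := by decide +kernel

theorem three_gens_eq : three_gens = threeV ++ [threeA, threeB] := by decide +kernel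

theorem three_order : (permRep 276 9 (by decide)).order three_chain = 2187 := by decide +kernel

theorem exists_three : ∃ P : Subgroup G276, ¬ 3 ∣ P.index ∧ Fusion.KillsPart 3 P := by
  have hok := threeOk_ok
  simp only [threeOk, Bool.and_eq_true, List.all_eq_true, List.mem_range] at hok
  obtain ⟨⟨⟨⟨⟨⟨⟨⟨⟨⟨⟨⟨ha, hb⟩, ht⟩, hn⟩, hv⟩, htt⟩, hta⟩, htb⟩, ha3⟩, hb3⟩, hab⟩, hna⟩, hnb⟩ := hok
  have ia := el_has co3_chain_ok ha
  have ib := el_has co3_chain_ok hb
  have it := el_has co3_chain_ok ht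
  have i_n := el_has co3_chain_ok hn
  let v : Fin 5 → G276 := fun i => el co3_chain_ok (hv i i.isLt).1.1.1.1.1.1
  have iv : ∀ i : Fin 5, Has _ _ (v i) (threeV.getD i (pone 276 9)) := fun i => el_has co3_chain_ok _
  -- conjugates as words
  let g : ℕ → G276 := fun i => if h : i < 5 then v ⟨i, h⟩ else 1
  have hlen : threeV.length = 5 := rfl
  have hg : ∀ i, Has _ _ (g i) (threeV.getD i (pone 276 9)) := fun i => by
    by_cases h : i < 5
    · simp only [g, dif_pos h]; exact iv ⟨i, h⟩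
    · simp only [g, dif_neg h]
      rw [List.getD_eq_default _ _ (by omega)]
      exact hasOne
  have hmem : ∀ l : List ℕ, (l.map g).prod ∈ Subgroup.closure (Set.range v) := fun l => by
    refine list_prod_mem fun x hx => ?_
    obtain ⟨i, -, rfl⟩ := List.mem_map.1 hx
    by_cases h : i < 5
    · simp only [g, dif_pos h]; exact Subgroup.subset_closure ⟨_, rfl⟩
    · simp only [g, dif_neg h]; exact one_mem _
  refine ⟨Subgroup.closure (Set.range v ∪ {el co3_chain_ok ha, el co3_chain_ok hb}), fun hd => ?_,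
    InvertedAbelian.killsPart_inverted v (el co3_chain_ok ha) (el co3_chain_ok hb) (el co3_chain_ok ht)
      (el co3_chain_ok hn) (fun i => ((iv i).pow 3).eq hasOne (hv i i.isLt).1.1.1.1.1.2)
      (fun i j => ((iv i).mul (iv j)).eq ((iv j).mul (iv i)) ((hv i i.isLt).1.1.1.2 j j.isLt))
      (fun i j hij => ?_) ((it.mul it).eq hasOne htt) (fun i => ?_)
      ((it.mul ia).eq (ia.mul it) hta) ((it.mul ib).eq (ib.mul it) htb)
      ((ia.pow 3).eq hasOne ha3) ((ib.pow 3).eq hasOne hb3) ((ia.mul ib).eq (ib.mul ia) hab)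
      (mul_inv_eq_iff_eq_mul.2 ((i_n.mul ia).eq (ib.mul i_n) hna))
      (mul_inv_eq_iff_eq_mul.2 ((i_n.mul ib).eq (ia.mul i_n) hnb)) (fun i => ?_) (fun i => ?_)⟩
  · -- the index
    have hcard : Nat.card (Subgroup.closure (Set.range v ∪ {el co3_chain_ok ha, el co3_chain_ok hb})) =
        2187 := by
      rw [← Subgroup.card_map_of_injective (Subgroup.subtype_injective _), MonoidHom.map_closure,
        ← three_order, ← (permRep 276 9 (by decide)).card_closure three_check]
      refine congrArg (fun S => Nat.card (Subgroup.closure S : Subgroup (Equiv.Perm (Fin 276)))) ?_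
      rw [three_gens_eq, Set.image_union, Set.image_pair, ← Set.range_comp]
      ext σ
      simp only [Set.mem_union, Set.mem_range, Set.mem_insert_iff, Set.mem_singleton_iff, Set.mem_image,
        Set.mem_setOf_eq, List.mem_append, List.mem_cons, List.not_mem_nil, or_false]
      constructor
      · rintro (⟨i, rfl⟩ | rfl | rfl)
        · refine ⟨threeV.getD i (pone 276 9), Or.inl ?_, (iv i).2.symm⟩
          rw [List.getD_eq_getElem _ _ (by omega)]
          exact List.getElem_mem _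
        · exact ⟨_, Or.inr (Or.inl rfl), ia.2.symm⟩
        · exact ⟨_, Or.inr (Or.inr rfl), ib.2.symm⟩
      · rintro ⟨c, hc | rfl | rfl, rfl⟩
        · obtain ⟨i, hi, rfl⟩ := List.getElem_of_mem hc
          refine Or.inl ⟨⟨i, by omega⟩, ?_⟩
          show ((v ⟨i, by omega⟩ : G276) : Equiv.Perm (Fin 276)) = _
          rw [(iv ⟨i, by omega⟩).2, List.getD_eq_getElem _ _ hi]
        · exact Or.inr (Or.inl ia.2.symm)
        · exact Or.inr (Or.inr ib.2.symm)
    have h := Nat.mul_dvd_mul_left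
      (Nat.card (Subgroup.closure (Set.range v ∪ {el co3_chain_ok ha, el co3_chain_ok hb}))) hd
    rw [Subgroup.card_mul_index, hcard, card_grp] at h
    norm_num at h
  · have h := (hv i i.isLt).2 j j.isLt
    have hlt : Nat.blt i j = true := by rw [Nat.blt_eq]; exact hij
    rw [hlt, Bool.not_true, Bool.false_or] at h
    obtain ⟨d, -, hd⟩ := List.any_eq_true.1 h
    simp only [Bool.and_eq_true, Bool.not_eq_true'] at hd
    obtain ⟨⟨⟨⟨⟨-, -⟩, hm⟩, hdet⟩, e1⟩, e2⟩ := hd
    have im := el_has co3_chain_ok hm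
    refine ⟨el co3_chain_ok hm, d.2.2.2.1, d.2.2.2.2.1, d.2.2.2.2.2.1, d.2.2.2.2.2.2,
      fun e => ?_, mul_inv_eq_iff_eq_mul.2 ((im.mul (iv i)).eq
        ((((iv i).pow _).mul ((iv j).pow _)).mul im) e1),
      mul_inv_eq_iff_eq_mul.2 ((im.mul (iv j)).eq ((((iv i).pow _).mul ((iv j).pow _)).mul im) e2)⟩
    rw [e, Nat.beq_refl] at hdet
    exact Bool.noConfusion hdet
  · have h3 := ((iv i).pow 3).eq hasOne (hv i i.isLt).1.1.1.1.1.2
    rw [mul_inv_eq_iff_eq_mul]
    refine Eq.trans ((it.mul (iv i)).eq (((iv i).pow 2).mul it) (hv i i.isLt).1.1.1.1.2) ?_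
    refine congrArg (· * el co3_chain_ok ht) ?_
    rw [eq_inv_iff_mul_eq_one, ← pow_succ]
    exact h3
  · rw [mul_inv_eq_iff_eq_mul.2 ((ia.mul (iv i)).eq ((has_word hg _).mul ia) (hv i i.isLt).1.1.2)]
    exact hmem _
  · rw [mul_inv_eq_iff_eq_mul.2 ((ib.mul (iv i)).eq ((has_word hg _).mul ib) (hv i i.isLt).1.2)]
    exact hmem _

/-- The checks at five. -/
noncomputable def fiveOk : Bool :=
  let mem := fun c => memC (n := 276) (w := 9) (by decide) co3_chain c
  let one := pone 276 9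
  mem fiveA && mem fiveB && mem fiveC && mem fiveM1 && mem fiveM2 &&
    Nat.beq (p2 fiveA 5) one && Nat.beq (p2 fiveB 5) one && Nat.beq (p2 fiveC 5) one &&
    pNotOne 276 9 fiveC &&
    Nat.beq (m2 fiveA fiveB) (m2 (m2 fiveC fiveB) fiveA) && Nat.beq (m2 fiveC fiveA) (m2 fiveA fiveC) &&
    Nat.beq (m2 fiveC fiveB) (m2 fiveB fiveC) &&
    Nat.beq (m2 fiveM1 fiveC) (m2 (p2 fiveC 4) fiveM1) &&
    Nat.beq (m2 fiveM1 fiveA) (m2 (m2 (p2 fiveA 1) (p2 fiveC 0)) fiveM1) &&
    Nat.beq (m2 fiveM2 fiveC) (m2 (p2 fiveC 4) fiveM2) &&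
    Nat.beq (m2 fiveM2 fiveB) (m2 (m2 (p2 fiveB 1) (p2 fiveC 0)) fiveM2)

theorem fiveOk_ok : fiveOk = true := by decide +kernel

theorem five_gens_eq : five_gens = [fiveA, fiveB] := by decide +kernel

theorem five_order : (permRep 276 9 (by decide)).order five_chain = 125 := by decide +kernel

theorem exists_five : ∃ P : Subgroup G276, ¬ 5 ∣ P.index ∧ Fusion.KillsPart 5 P := by
  have hok := fiveOk_ok
  simp only [fiveOk, Bool.and_eq_true] at hok
  obtain ⟨⟨⟨⟨⟨⟨⟨⟨⟨⟨⟨⟨⟨⟨⟨ha, hb⟩, hcm⟩, hm1⟩, hm2⟩, ha5⟩, hb5⟩, hc5⟩, hc1⟩, hab⟩, hca⟩, hcb⟩, f1⟩, f2⟩,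
    f3⟩, f4⟩ := hok
  have ia := el_has co3_chain_ok ha
  have ib := el_has co3_chain_ok hb
  have ic := el_has co3_chain_ok hcm
  have j1 := el_has co3_chain_ok hm1
  have j2 := el_has co3_chain_ok hm2
  refine ⟨Subgroup.closure {el co3_chain_ok ha, el co3_chain_ok hb}, fun hd => ?_,
    InvertedAbelian.killsPart_extraspecial (by norm_num) _ _ (el co3_chain_ok hcm) (el co3_chain_ok hm1)
      (el co3_chain_ok hm2) (a₁ := 4) (b₁ := 1) (i₁ := 0) (a₂ := 4) (b₂ := 1) (i₂ := 0)
      ((ia.pow 5).eq hasOne ha5) ((ib.pow 5).eq hasOne hb5) ((ic.pow 5).eq hasOne hc5) (ic.ne_one hc1) ?_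
      ((ic.mul ia).eq (ia.mul ic) hca) ((ic.mul ib).eq (ib.mul ic) hcb) (by norm_num) (by norm_num)
      (mul_inv_eq_iff_eq_mul.2 ((j1.mul ic).eq ((ic.pow _).mul j1) f1))
      (mul_inv_eq_iff_eq_mul.2 ((j1.mul ia).eq (((ia.pow _).mul (ic.pow _)).mul j1) f2))
      (mul_inv_eq_iff_eq_mul.2 ((j2.mul ic).eq ((ic.pow _).mul j2) f3))
      (mul_inv_eq_iff_eq_mul.2 ((j2.mul ib).eq (((ib.pow _).mul (ic.pow _)).mul j2) f4))⟩
  · have h := Nat.mul_dvd_mul_left
      (Nat.card (Subgroup.closure {el co3_chain_ok ha, el co3_chain_ok hb})) hd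
    rw [Subgroup.card_mul_index, PermMult.card_closure_eq co3_chain_ok ha hb five_gens_eq five_check,
      five_order, card_grp] at h
    norm_num at h
  · rw [commutatorElement_def, mul_inv_eq_iff_eq_mul, mul_inv_eq_iff_eq_mul]
    exact (ia.mul ib).eq ((ic.mul ib).mul ia) hab

theorem el7_ok : (memC (n := 276) (w := 9) (by decide) co3_chain el7 && Nat.beq (p2 el7 7) (pone 276 9) &&
    pNotOne 276 9 el7) = true := by decide +kernel

theorem el11_ok : (memC (n := 276) (w := 9) (by decide) co3_chain (co3_gens.getD 1 0) &&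
    Nat.beq (p2 (co3_gens.getD 1 0) 11) (pone 276 9) && pNotOne 276 9 (co3_gens.getD 1 0)) = true := by
  decide +kernel

theorem el23_ok : (memC (n := 276) (w := 9) (by decide) co3_chain (co3_gens.getD 0 0) &&
    Nat.beq (p2 (co3_gens.getD 0 0) 23) (pone 276 9) && pNotOne 276 9 (co3_gens.getD 0 0)) = true := by
  decide +kernel

theorem prime_dvd {p : ℕ} (hp : p.Prime) (h : p ∣ 495766656000) :
    p = 2 ∨ p = 3 ∨ p = 5 ∨ p = 7 ∨ p = 11 ∨ p = 23 := by
  rw [show (495766656000 : ℕ) = 2 ^ 10 * 3 ^ 7 * 5 ^ 3 * 7 * 11 * 23 by norm_num] at h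
  simp only [hp.dvd_mul] at h
  have one := fun {q : ℕ} (hq : q.Prime) (hd : p ∣ q) => (Nat.prime_dvd_prime_iff_eq hp hq).1 hd
  rcases h with ((((h | h) | h) | h) | h) | h
  · exact Or.inl (one Nat.prime_two (hp.dvd_of_dvd_pow h))
  · exact Or.inr (Or.inl (one Nat.prime_three (hp.dvd_of_dvd_pow h)))
  · exact Or.inr (Or.inr (Or.inl (one (by norm_num) (hp.dvd_of_dvd_pow h))))
  · exact Or.inr (Or.inr (Or.inr (Or.inl (one (by norm_num) h))))
  · exact Or.inr (Or.inr (Or.inr (Or.inr (Or.inl (one (by norm_num) h)))))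
  · exact Or.inr (Or.inr (Or.inr (Or.inr (Or.inr (one (by norm_num) h)))))

theorem multiplier_grp : HasCyclicSchurMultiplier G276 1 := by
  have : Finite G276 := inferInstance
  refine Fusion.hasTrivialMultiplier fun p hp hd => ?_
  rw [card_grp] at hd
  rcases prime_dvd hp hd with rfl | rfl | rfl | rfl | rfl | rfl
  · exact PermMult.exists_two co3_chain_ok two_ok (by rw [card_grp]; show ¬ 2 ^ 11 ∣ _; norm_num)
  · exact exists_three
  · exact exists_five
  · exact PermMult.exists_cyclic co3_chain_ok hp el7_ok (by rw [card_grp]; norm_num)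
  · exact PermMult.exists_cyclic co3_chain_ok hp el11_ok (by rw [card_grp]; norm_num)
  · exact PermMult.exists_cyclic co3_chain_ok hp el23_ok (by rw [card_grp]; norm_num)

theorem multiplier_co3 : HasCyclicSchurMultiplier ↥Spor.Co3 1 :=
  Universe.hasSchurMultiplier_lift (co3Equiv.trans stEquiv).symm multiplier_grp

end Cfsg.Agent.Lib.Co3Model
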