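import Cfsg.Agent.Lib.Co3Model.Cent
import Cfsg.Agent.Lib.OutTrivial.Triple
import Mathlib.GroupTheory.OrderOfElement

/-!
# The outer automorphism group of the third Conway group

The rigid triple `(gx, gs, gt)` of orders 23, 11, 2; all relations are read on the 276 points.
-/

set_option autoImplicit false

namespace Cfsg.Agent.Lib.Co3Model

open Cfsg Cfsg.Agent.Lib.OutTrivial
open Cfsg.Agent.Lib.Computation (getW decodeP okPerm permRep)

/-- The codes of the three generators. -/
def cs : List ℕ := [co3_gens.getD 0 0, co3_gens.getD 1 0, co3_gens.getD 2 0]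

/-- The image of a point under a word in the generators. -/
def evalW (w : List (Fin 3)) (j : ℕ) : ℕ := w.foldr (fun i a => getW 9 (cs.getD i 0) a) j

/-- Substitution of words for the three letters. -/
def expand (A B C : List (Fin 3)) (w : List (Fin 3)) : List (Fin 3) := w.flatMap ![A, B, C]

/-- A word acting as the identity on all points. -/
def isOne (w : List (Fin 3)) : Bool := (List.range 276).all fun j => evalW w j == j

/-- A word moving one of the first three points. -/
def moves (w : List (Fin 3)) : Bool := (List.range 3).any fun j => evalW w j != j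

/-- The value of a word in the generators. -/
noncomputable def V (w : List (Fin 3)) : St := val3 gx gs gt w

theorem V_append (a b : List (Fin 3)) : V (a ++ b) = V a * V b := by
  induction a with
  | nil => exact (one_mul _).symm
  | cons i a ih =>
    show ![gx, gs, gt] i * V (a ++ b) = ![gx, gs, gt] i * V a * V b
    rw [ih, mul_assoc]

theorem V_replicate (n : ℕ) (i : Fin 3) : V (List.replicate n i) = ![gx, gs, gt] i ^ n := by
  induction n with
  | zero => exact (pow_zero _).symm
  | succ n ih => rw [List.replicate_succ, V, val3, ← V, ih, pow_succ']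

theorem V_expand (A B C : List (Fin 3)) :
    ∀ w, V (expand A B C w) = val3 (V A) (V B) (V C) w
  | [] => rfl
  | i :: is => by
    rw [expand, List.flatMap_cons, V_append, ← expand, V_expand A B C is]
    fin_cases i <;> rfl

/-- The permutation of the points. -/
noncomputable def toP : St →* Equiv.Perm (Fin 276) :=
  ((permRep 276 9 (by decide)).grp co3_chain).subtype.comp stEquiv.toMonoidHom

theorem toP_injective : Function.Injective toP :=
  (Subgroup.subtype_injective _).comp stEquiv.injective

theorem cs_ok : (cs.all fun c => okPerm 276 9 c) = true := by decide +kernel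

theorem toP_gen (i : Fin 3) : toP (![gx, gs, gt] i) = decodeP 276 9 (cs.getD i 0) := by
  fin_cases i
  · show toP gx = decodeP 276 9 (co3_gens.getD 0 0)
    exact stEquiv_ofCode codes_ok.1
  · show toP gs = decodeP 276 9 (co3_gens.getD 1 0)
    exact stEquiv_ofCode codes_ok.2.1
  · show toP gt = decodeP 276 9 (co3_gens.getD 2 0)
    exact stEquiv_ofCode codes_ok.2.2

theorem toP_apply : ∀ (w : List (Fin 3)) (j : Fin 276), ((toP (V w) j : Fin 276) : ℕ) = evalW w j
  | [], j => by rw [V, val3, map_one]; rfl
  | i :: is, j => by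
    rw [V, val3, ← V, map_mul, Equiv.Perm.mul_apply, toP_gen, Computation.decodeP_apply
      (List.all_eq_true.1 cs_ok _ (by fin_cases i <;> simp [cs])), toP_apply is j]
    rfl

theorem eq_of_eval {a b : List (Fin 3)}
    (h : ((List.range 276).all fun j => evalW a j == evalW b j) = true) : V a = V b :=
  toP_injective (Equiv.ext fun j => Fin.ext (by
    rw [toP_apply, toP_apply]
    exact beq_iff_eq.1 (List.all_eq_true.1 h j (List.mem_range.2 j.2))))

theorem eq_one_of_isOne {w : List (Fin 3)} (h : isOne w = true) : V w = 1 :=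
  eq_of_eval (b := []) h

theorem ne_one_of_moves {w : List (Fin 3)} (h : moves w = true) : V w ≠ 1 := by
  intro e
  obtain ⟨j, hj, hne⟩ := List.any_eq_true.1 h
  have h2 := toP_apply w ⟨j, lt_trans (List.mem_range.1 hj) (by norm_num)⟩
  rw [e, map_one] at h2
  exact (bne_iff_ne).1 hne h2.symm

theorem V_zero : V [0] = gx := mul_one _

theorem V_s : V [1] = gs := mul_one _

theorem V_t : V [2] = gt := mul_one _

/-- The relations. -/
def rels : List (List (Fin 3)) :=
  [[2, 2],
    (List.replicate 14 [0, 1, 1, 2]).flatten]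

theorem rels_ok : (rels.all isOne) = true := by decide +kernel

theorem gt_gs : gt * gs = gs * gt := by
  rw [← V_t, ← V_s]
  rw [← V_append, ← V_append]
  exact eq_of_eval (by decide +kernel)

theorem gt_gt : gt * gt = 1 := by
  rw [← V_t, ← V_append]
  exact eq_one_of_isOne (by decide +kernel)

/-- The letter words of `x ^ k`. -/
def xk (k : ℕ) : List (Fin 3) := List.replicate k 0

theorem V_xk (k : ℕ) : V (xk k) = gx ^ k := V_replicate k 0

theorem gx_pow23 : gx ^ 23 = 1 := by
  rw [← V_xk]
  exact eq_one_of_isOne (by decide +kernel)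

theorem order_gx : orderOf gx = 23 :=
  have : Fact (Nat.Prime 23) := ⟨by norm_num⟩
  orderOf_eq_prime gx_pow23 (by
    rw [← V_zero]
    exact ne_one_of_moves (by decide +kernel))

theorem conj_x : gs * gx * gs⁻¹ = gx ^ 2 := by
  rw [mul_inv_eq_iff_eq_mul, ← V_xk, ← V_s, ← V_zero]
  rw [← V_append, ← V_append]
  exact eq_of_eval (by decide +kernel)

theorem conj_s : gt * gs * gt⁻¹ = gs ^ 1 := by
  rw [pow_one, mul_inv_eq_iff_eq_mul, gt_gs]

theorem shift_check : ((List.range 23).all fun i => (List.range 276).all fun j =>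
    evalW ([1] ++ xk i) j ==
      evalW (xk ((46 - 2 * i) % 23) ++ [1] ++ xk (23 - (46 - 2 * i) % 23)) j) = true := by
  decide +kernel

theorem shift (i : ℕ) (hi : i < 23) : ∃ m : ℕ, gs * gx ^ i = gx ^ m * gs * (gx ^ m)⁻¹ := by
  refine ⟨(46 - 2 * i) % 23, ?_⟩
  have hm : (46 - 2 * i) % 23 ≤ 23 := (Nat.mod_lt _ (by norm_num)).le
  have hinv : (gx ^ ((46 - 2 * i) % 23))⁻¹ = gx ^ (23 - (46 - 2 * i) % 23) :=
    inv_eq_of_mul_eq_one_right (by rw [← pow_add, Nat.add_sub_cancel' hm, gx_pow23])
  rw [hinv]
  have h := eq_of_eval (List.all_eq_true.1 shift_check i (List.mem_range.2 hi))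
  simpa only [V_append, V_xk, V_s] using h

/-- The candidates for the correction of the third generator. -/
def tus : List (List (Fin 3)) :=
  ((List.range 11).map fun i => 2 :: List.replicate i 1) ++ (List.range 11).map fun i => List.replicate i 1

theorem refute_check : ((tus.drop 1).all fun tu => (List.range 22).all fun k =>
    rels.any fun w => moves (expand (xk (k + 1)) [1] tu w)) = true := by
  decide +kernel

theorem hk_check : ((List.range 22).all fun k =>
    (rels.any fun w => moves (expand (xk (k + 1)) [1] [2] w)) ||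
    (List.range 11).any fun i => (List.range 276).all fun j =>
      evalW (List.replicate i 1 ++ [0]) j == evalW (xk (k + 1) ++ List.replicate i 1) j) = true := by
  decide +kernel

theorem refute_tu {tu : List (Fin 3)} (h : tu ∈ tus.drop 1) (k : ℕ) (hk : k < 23) (hk0 : k ≠ 0) :
    ∃ w ∈ rels, val3 (gx ^ k) gs (V tu) w ≠ 1 := by
  have h1 := List.all_eq_true.1 (List.all_eq_true.1 refute_check tu h) (k - 1)
    (List.mem_range.2 (by omega))
  rw [Nat.sub_add_cancel (by omega : 1 ≤ k)] at h1
  obtain ⟨w, hw, hm⟩ := List.any_eq_true.1 h1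
  refine ⟨w, hw, ?_⟩
  have h2 := ne_one_of_moves hm
  rwa [V_expand, V_xk, V_s] at h2

theorem card_not_dvd : ¬ 23 ^ 2 ∣ Nat.card St := by
  rw [card_St]; norm_num

theorem gen_top : Subgroup.closure ({gx, gs, gt} : Set St) = ⊤ := H_eq_top

/-- The rigid triple. -/
noncomputable def triple : Triple St where
  x := gx
  s := gs
  t := gt
  p := 23
  r := 2
  e := 1
  U := {g | ∃ i < 11, g = gs ^ i ∨ g = gt * gs ^ i}
  rels := rels
  prime := by norm_num
  gen := gen_top
  order_x := order_gx
  sq := card_not_dvd
  conj_x := conj_x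
  conj_s := conj_s
  cent_x := cent_x
  shift := shift
  cent_s g hg := cent_s g (mul_inv_eq_iff_eq_mul.1 hg) gt_gs gt_gt
  rel w hw := eq_one_of_isOne (List.all_eq_true.1 rels_ok w hw)
  refute := by
    rintro u ⟨i, hi, rfl | rfl⟩
    · rcases Nat.eq_zero_or_pos i with rfl | hi0
      · exact Or.inl ⟨0, by simp⟩
      · refine Or.inr fun k hk hk0 => ?_
        have e : gt * gs ^ i = V (2 :: List.replicate i 1) := by
          rw [V, val3, ← V, V_replicate]; rfl
        rw [e]
        refine refute_tu ?_ k hk hk0
        have : ∀ i < 11, 0 < i → 2 :: List.replicate i 1 ∈ tus.drop 1 := by decide +kernel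
        exact this i hi hi0
    · refine Or.inr fun k hk hk0 => ?_
      have e : gt * (gt * gs ^ i) = V (List.replicate i 1) := by
        rw [← mul_assoc, gt_gt, one_mul, V_replicate]; rfl
      rw [e]
      refine refute_tu ?_ k hk hk0
      have : ∀ i < 11, List.replicate i 1 ∈ tus.drop 1 := by decide +kernel
      exact this i hi

theorem card_out_St : Nat.card (Out St) = 1 := by
  refine triple.card_out_one fun k hk hk0 => ?_
  change k < 23 at hk
  have h := List.all_eq_true.1 hk_check (k - 1) (List.mem_range.2 (by omega))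
  rw [Nat.sub_add_cancel (by omega : 1 ≤ k), Bool.or_eq_true] at h
  rcases h with h | h
  · obtain ⟨w, hw, hm⟩ := List.any_eq_true.1 h
    refine Or.inl ⟨w, hw, ?_⟩
    have h2 := ne_one_of_moves hm
    rwa [V_expand, V_xk, V_s, V_t] at h2
  · obtain ⟨i, -, hi⟩ := List.any_eq_true.1 h
    refine Or.inr ⟨gs ^ i, (Commute.pow_self gs i).eq, (Commute.pow_left gt_gs.symm i).eq, ?_⟩
    rw [mul_inv_eq_iff_eq_mul]
    have h2 := eq_of_eval hi
    simp only [V_append, V_xk, V_zero, V_replicate, Matrix.cons_val_one, Matrix.cons_val_zero] at h2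
    exact h2

/-- An isomorphism carries inner automorphisms onto inner automorphisms. -/
noncomputable def outCongr {E F : Type*} [Group E] [Group F] (e : E ≃* F) : Out E ≃* Out F :=
  QuotientGroup.congr _ _ (MulAut.congr e) (by
    ext φ
    constructor
    · rintro ⟨_, ⟨g, rfl⟩, rfl⟩
      exact ⟨e g, MulEquiv.ext fun x => by simp [MulAut.congr]⟩
    · rintro ⟨g, rfl⟩
      exact ⟨MulAut.conj (e.symm g), ⟨_, rfl⟩, MulEquiv.ext fun x => by simp [MulAut.congr]⟩)

theorem card_out_co3 : Nat.card (Out ↥Spor.Co3) = 1 :=
  (Nat.card_congr (outCongr co3Equiv).toEquiv).trans card_out_St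

end Cfsg.Agent.Lib.Co3Model
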