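import Cfsg.Agent.Lib.Co3Model.Ops

/-!
Lattice vectors packed in natural numbers, eight bits per coordinate shifted by 128, and the primitive
automorphisms on these codes (cheap for the kernel).
-/

set_option autoImplicit false

namespace Cfsg.Agent.Lib.Co3Model

open Cfsg.Agent.Lib.Computation (getW packW forceNat forceNat_eq getW_packW getW_eq)

/-- The coordinates of a code. -/
def decodeV (c : ℕ) : List ℤ := (List.range 24).map fun i => ((getW 8 c i : ℕ) : ℤ) - 128

theorem ent_decodeV (c : ℕ) {i : ℕ} (hi : i < 24) : ent (decodeV c) i = (getW 8 c i : ℤ) - 128 := by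
  simp [ent, decodeV, List.getD_eq_getElem?_getD, hi]

theorem getW8_lt (c i : ℕ) : getW 8 c i < 256 := by
  rw [getW_eq]; exact Nat.mod_lt _ (by norm_num)

/-- The sum of the digits with a given label. -/
def sumC (p t c : ℕ) : ℕ :=
  Nat.rec 0 (fun i acc => bif Nat.beq (lab p i) t then Nat.add acc (getW 8 c i) else acc) 24

/-- The number of coordinates with a given label. -/
def cntC (p t : ℕ) : ℕ :=
  Nat.rec 0 (fun i acc => bif Nat.beq (lab p i) t then Nat.add acc 1 else acc) 24

/-- The halves of the six sums. -/
def halves (p c : ℕ) : ℕ := packW 12 (fun t => Nat.div (sumC p t c) 2) 6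

/-- The checks under which a sextet map stays in range. -/
def sextOkC (p c h : ℕ) : Bool :=
  ((List.range 6).all fun t => Nat.beq (cntC p t) 4) &&
    (List.range 24).all fun i => Nat.blt (lab p i) 6 && Nat.ble (getW 8 c i) (getW 12 h (lab p i)) &&
      Nat.blt (getW 12 h (lab p i) - getW 8 c i) 256 &&
      (!Nat.beq (lab p i) 0 || Nat.blt 0 (getW 12 h (lab p i) - getW 8 c i))

/-- A primitive on codes; `none` when a coordinate leaves the range. -/
def Op.appC : Op → ℕ → Option ℕ
  | .perm _ ci, c => some (packW 8 (fun i => getW 8 c (getW 5 ci i)) 24)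
  | .sign m, c => bif (List.range 24).all fun i => !m.testBit i || Nat.blt 0 (getW 8 c i)
      then some (packW 8 (fun i => bif m.testBit i then 256 - getW 8 c i else getW 8 c i) 24) else none
  | .sext p, c => forceNat c fun c => forceNat (halves p c) fun h =>
      bif sextOkC p c h then some (packW 8 (fun i => bif Nat.beq (lab p i) 0
        then 256 - (getW 12 h (lab p i) - getW 8 c i) else getW 12 h (lab p i) - getW 8 c i) 24)
      else none

/-- A word on codes. -/
def appWordC : List Op → ℕ → Option ℕ
  | [], c => some c
  | o :: w, c => match appWordC w c with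
    | some d => forceNat d o.appC
    | none => none

theorem decodeV_packW {f : ℕ → ℕ} (hf : ∀ i < 24, f i < 256) :
    decodeV (packW 8 f 24) = (List.range 24).map fun i => (f i : ℤ) - 128 := by
  refine List.map_congr_left fun i hi => ?_
  rw [getW_packW (w := 8) (fun x hx => hf x hx) (List.mem_range.1 hi)]

theorem sum_rec (g : ℕ → ℤ) : ∀ n, ((List.range n).map g).sum = Nat.rec 0 (fun i acc => acc + g i) n := by
  intro n
  induction n with
  | zero => rfl
  | succ n ih => rw [List.range_succ, List.map_append, List.sum_append, ih]; simp

theorem labSum_decodeV (p t c : ℕ) :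
    labSum p t (decodeV c) = (sumC p t c : ℤ) - 128 * (cntC p t : ℤ) := by
  rw [labSum, List.map_congr_left (g := fun i => if lab p i = t then (getW 8 c i : ℤ) - 128 else 0)
    fun i hi => by rw [ent_decodeV c (List.mem_range.1 hi)], sum_rec]
  unfold sumC cntC
  generalize (24 : ℕ) = n
  induction n with
  | zero => simp
  | succ n ih =>
    simp only [ih]
    by_cases h : lab p n = t
    · simp only [h, if_true, Nat.beq_refl, cond_true, Nat.add_eq, Nat.cast_add, Nat.cast_one]
      ring
    · have hb : Nat.beq (lab p n) t = false := by
        rw [Bool.eq_false_iff, ne_eq, Nat.beq_eq]; exact h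
      simp only [h, if_false, hb, cond_false, add_zero]

theorem appC_sound : ∀ {o : Op} {c d : ℕ}, o.ok = true → o.appC c = some d →
    o.app (decodeV c) = decodeV d := by
  intro o c d hok h
  cases o with
  | perm a ci =>
    simp only [Op.appC, Option.some.injEq] at h
    subst h
    rw [decodeV_packW fun i _ => getW8_lt _ _]
    refine List.map_congr_left fun i hi => ?_
    simp only [Op.ok, Bool.and_eq_true] at hok
    rw [ent_decodeV c (Golay.getW_lt hok.1.2 (List.mem_range.1 hi))]
  | sign m =>
    simp only [Op.appC, Bool.cond_eq_ite, Option.ite_none_right_eq_some, Option.some.injEq,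
      List.all_eq_true, List.mem_range, Bool.or_eq_true, Bool.not_eq_true', Nat.blt_eq] at h
    obtain ⟨hr, rfl⟩ := h
    rw [decodeV_packW fun i hi => by
      have := getW8_lt c i
      have := hr i hi
      split_ifs with hb
      · simp only [hb, Bool.true_eq_false, false_or] at this; omega
      · omega]
    refine List.map_congr_left fun i hi => ?_
    have := getW8_lt c i
    rw [ent_decodeV c (List.mem_range.1 hi)]
    split_ifs <;> omega
  | sext p =>
    simp only [Op.appC, forceNat_eq, Bool.cond_eq_ite, Option.ite_none_right_eq_some,
      Option.some.injEq] at h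
    obtain ⟨hr, rfl⟩ := h
    simp only [sextOkC, Bool.and_eq_true, List.all_eq_true, List.mem_range, Nat.blt_eq, Nat.ble_eq,
      Nat.beq_eq, Bool.or_eq_true, Bool.not_eq_true'] at hr
    obtain ⟨hcnt, hr⟩ := hr
    have hh : ∀ t < 6, getW 12 (halves p c) t = sumC p t c / 2 := by
      intro t ht
      rw [halves, getW_packW (fun x _ => ?_) ht]
      · rfl
      · have key : ∀ n, Nat.rec (motive := fun _ => ℕ) 0
            (fun i acc => bif Nat.beq (lab p i) x then Nat.add acc (getW 8 c i) else acc) n ≤ 256 * n := by
          intro n
          induction n with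
          | zero => simp
          | succ n ih =>
            have := getW8_lt c n
            show (bif _ then _ else _) ≤ _
            cases Nat.beq (lab p n) x <;> simp only [cond_true, cond_false, Nat.add_eq] at ih ⊢ <;> omega
        have h1 := key 24
        show sumC p x c / 2 < 4096
        unfold sumC
        omega
    rw [decodeV_packW fun i hi => by
      obtain ⟨⟨⟨h1, h2⟩, h3⟩, h4⟩ := hr i hi
      by_cases hb : lab p i = 0
      · simp only [hb, Nat.beq_refl, if_true]
        rw [hb] at h3 h4
        rcases h4 with h4 | h4
        · exact absurd h4 (by simp)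
        · omega
      · rw [if_neg (by simpa using hb)]
        exact h3]
    refine List.map_congr_left fun i hi => ?_
    obtain ⟨⟨⟨h1, h2⟩, h3⟩, h4⟩ := hr i (List.mem_range.1 hi)
    rw [ent_decodeV c (List.mem_range.1 hi), labSum_decodeV, hcnt _ h1, hh _ h1]
    rw [hh _ h1] at h2 h3 h4
    by_cases hb : lab p i = 0
    · simp only [hb, if_true, Nat.beq_refl]
      rw [hb] at h2 h3
      omega
    · simp only [hb, if_false, Nat.beq_eq]
      omega

theorem appWordC_sound : ∀ {w : List Op} {c d : ℕ}, w.all Op.ok = true → appWordC w c = some d →
    appWord w (decodeV c) = decodeV d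
  | [], c, d, _, h => by
    simp only [appWordC, Option.some.injEq] at h
    subst h; rfl
  | o :: w, c, d, hok, h => by
    simp only [List.all_cons, Bool.and_eq_true] at hok
    simp only [appWordC] at h
    cases he : appWordC w c with
    | none => simp [he] at h
    | some e =>
      simp only [he, forceNat_eq] at h
      rw [appWord, appWordC_sound hok.2 he]
      exact appC_sound hok.1 h

/-- A word maps a code to another. -/
def mapsC (w : List Op) (c d : ℕ) : Bool :=
  match appWordC w c with
  | some e => Nat.beq e d
  | none => false

theorem mapsC_sound {w : List Op} {c d : ℕ} (hok : w.all Op.ok = true) (h : mapsC w c d = true) :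
    appWord w (decodeV c) = decodeV d := by
  unfold mapsC at h
  cases he : appWordC w c with
  | none => simp [he] at h
  | some e =>
    simp only [he, Nat.beq_eq] at h
    rw [appWordC_sound hok he, h]

/-- The code of a list of coordinates. -/
def encV (L : List ℤ) : ℕ := packW 8 (fun i => (ent L i + 128).toNat) 24

end Cfsg.Agent.Lib.Co3Model
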